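import Cfsg.Agent.Lib.Geometry.SymmBasis
import Cfsg.Agent.Lib.Geometry.OrthSiegel
import Cfsg.Prelude.Def_Classical

/-!
Normal forms of non-degenerate quadratic forms over finite fields, in any characteristic.
-/

set_option autoImplicit false
set_option maxHeartbeats 800000

namespace Cfsg.Agent.Lib.QuadFin

open QuadraticMap (polarBilin)
open Module (finrank)
open Cfsg.Agent.Lib.Geometry (quad_add quad_sub quad_smul quad_polar_self quad_polar_comm IsHypFrame hypPerp
  mem_hypPerp hypPerp_nondeg finrank_hypPerp_ge)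

attribute [-simp] QuadraticMap.polarBilin_apply_apply

variable {F V : Type*} [Field F] [AddCommGroup V] [Module F V] [FiniteDimensional F V] (Q : QuadraticForm F V)

theorem polar_isSymm : LinearMap.BilinForm.IsSymm (polarBilin Q) := ⟨fun x y => quad_polar_comm Q x y⟩

theorem polar_eq (x y : V) : QuadraticMap.polar ⇑Q x y = polarBilin Q x y := rfl

/-- Two forms agreeing on a basis together with their polar forms are equal. -/
theorem quad_ext_basis {ι : Type*} (b : Module.Basis ι F V) (Q' : QuadraticForm F V)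
    (h : ∀ i, Q (b i) = Q' (b i)) (h' : ∀ i j, polarBilin Q (b i) (b j) = polarBilin Q' (b i) (b j)) (v : V) :
    Q v = Q' v := by
  have hB : polarBilin Q = polarBilin Q' := LinearMap.BilinForm.ext_basis b h'
  induction (b.mem_span v) using Submodule.span_induction with
  | mem x hx => obtain ⟨i, rfl⟩ := hx; exact h i
  | zero => simp
  | add x y _ _ hx hy => rw [quad_add, quad_add, hx, hy, hB]
  | smul c x _ hx => rw [quad_smul, quad_smul, hx]

/-- Singular vectors exist in subspaces of dimension at least three. -/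
theorem exists_singular_mem [Finite F] (W : Submodule F V) (hW : 3 ≤ finrank F W) :
    ∃ u ∈ W, u ≠ 0 ∧ Q u = 0 := by
  haveI : Fintype F := Fintype.ofFinite F
  by_contra hno
  push Not at hno
  have hne : ∀ u ∈ W, u ≠ 0 → Q u ≠ 0 := hno
  obtain ⟨x, hxW, hx0⟩ := (Submodule.ne_bot_iff W).mp (fun hb => by rw [hb, finrank_bot] at hW; omega)
  have key : ∀ x y : V, ∃ z ∈ W, polarBilin Q x z = 0 ∧ polarBilin Q y z = 0 ∧ z ≠ 0 := by
    intro x y
    let φ := ((polarBilin Q x).prod (polarBilin Q y)).domRestrict W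
    have h1 := φ.finrank_range_add_finrank_ker
    have h2 : finrank F (LinearMap.range φ) ≤ 2 := (Submodule.finrank_le _).trans (by simp)
    obtain ⟨z, hz, hz0⟩ := (Submodule.ne_bot_iff _).mp (fun hb => by rw [hb, finrank_bot] at h1; omega :
      LinearMap.ker φ ≠ ⊥)
    have hk := LinearMap.mem_ker.mp hz
    simp only [φ, LinearMap.domRestrict_apply, LinearMap.prod_apply, Function.prod_apply, Prod.mk_eq_zero] at hk
    exact ⟨z, z.2, hk.1, hk.2, fun h => hz0 (Subtype.ext h)⟩
  by_cases h2 : (2 : F) = 0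
  · haveI : CharP F 2 := CharTwo.of_one_ne_zero_of_two_eq_zero one_ne_zero h2
    obtain ⟨y, hyW, hxy, hyx⟩ : ∃ y ∈ W, polarBilin Q x y = 0 ∧ y ∉ Submodule.span F {x} := by
      by_contra hc
      push Not at hc
      let φ := (polarBilin Q x).domRestrict W
      have h1 := φ.finrank_range_add_finrank_ker
      have h2 : finrank F (LinearMap.range φ) ≤ 1 := (Submodule.finrank_le _).trans (by simp)
      have h3 : finrank F (LinearMap.ker φ) ≤ finrank F (Submodule.span F {x}) := by
        rw [← Submodule.finrank_map_subtype_eq]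
        refine Submodule.finrank_mono ?_
        rintro _ ⟨z, hz, rfl⟩
        exact hc z z.2 (LinearMap.mem_ker.mp hz)
      rw [finrank_span_singleton hx0] at h3
      omega
    have hy0 : y ≠ 0 := fun h => hyx (h ▸ Submodule.zero_mem _)
    obtain ⟨t, ht⟩ := isSquare_of_charTwo' (Q x / Q y)
    refine hne (x + t • y) (W.add_mem hxW (W.smul_mem _ hyW)) (fun h => hyx ?_) ?_
    · rcases eq_or_ne t 0 with rfl | ht0
      · rw [zero_smul, add_zero] at h; exact absurd h hx0
      · refine Submodule.mem_span_singleton.mpr ⟨-t⁻¹, ?_⟩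
        rw [eq_neg_of_add_eq_zero_left h, neg_smul, smul_neg, neg_neg, smul_smul, inv_mul_cancel₀ ht0, one_smul]
    · have hQy := hne y hyW hy0
      rw [quad_add, quad_smul, map_smul, hxy, smul_zero, add_zero, ← ht, div_mul_cancel₀ _ hQy]
      linear_combination (Q x) * h2
  · obtain ⟨y, hyW, hxy, -, hy0⟩ := key x x
    obtain ⟨z, hzW, hxz, hyz, hz0⟩ := key x y
    have hodd : Fintype.card F % 2 = 1 := FiniteField.odd_card_of_char_ne_two fun h => h2 (by
      haveI := ringChar.of_eq h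
      exact CharTwo.two_eq_zero)
    have hQx := hne x hxW hx0
    have hQy := hne y hyW hy0
    have hQz := hne z hzW hz0
    obtain ⟨s, t, hst⟩ := FiniteField.exists_root_sum_quadratic (R := F)
      (f := Polynomial.C (Q x) * Polynomial.X ^ 2 + Polynomial.C (Q z))
      (g := Polynomial.C (Q y) * Polynomial.X ^ 2)
      (by rw [Polynomial.degree_add_C (by rw [Polynomial.degree_C_mul_X_pow 2 hQx]; norm_num),
        Polynomial.degree_C_mul_X_pow 2 hQx]; rfl)
      (by rw [Polynomial.degree_C_mul_X_pow 2 hQy]; rfl) hodd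
    simp only [Polynomial.eval_add, Polynomial.eval_mul, Polynomial.eval_C, Polynomial.eval_pow, Polynomial.eval_X] at hst
    refine hne (s • x + t • y + z) (W.add_mem (W.add_mem (W.smul_mem _ hxW) (W.smul_mem _ hyW)) hzW) (fun h => ?_) ?_
    · have h' := congrArg (polarBilin Q z) h
      rw [map_add, map_add, map_smul, map_smul, quad_polar_comm Q z x, hxz, quad_polar_comm Q z y, hyz, map_zero,
        quad_polar_self] at h'
      simp only [smul_zero, zero_add] at h'
      exact mul_ne_zero h2 hQz h'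
    · rw [quad_add, quad_add, quad_smul, quad_smul]
      simp only [map_add, map_smul, LinearMap.add_apply, LinearMap.smul_apply, smul_eq_mul, hxy, hxz, hyz, mul_zero,
        add_zero]
      linear_combination hst

/-- A hyperbolic frame of singular vectors. -/
def IsQFrame {j : ℕ} (p : Fin j → V × V) : Prop :=
  IsHypFrame (polarBilin Q) p ∧ ∀ a, Q (p a).1 = 0 ∧ Q (p a).2 = 0

variable (hQ : (polarBilin Q).Nondegenerate)

include hQ in
theorem exists_mem_ne {W : Submodule F V}
    (hnd : ∀ a ∈ W, (∀ b ∈ W, polarBilin Q a b = 0) → a = 0) {u : V} (hu : u ∈ W) (hu0 : u ≠ 0) :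
    ∃ z ∈ W, polarBilin Q u z = 1 := by
  by_contra hc
  push Not at hc
  refine hu0 (hnd u hu fun z hz => ?_)
  by_contra hne
  exact hc ((polarBilin Q u z)⁻¹ • z) (W.smul_mem _ hz) (by rw [map_smul, smul_eq_mul, inv_mul_cancel₀ hne])

include hQ in
/-- A frame grows by a singular vector orthogonal to it. -/
theorem frame_snoc {j : ℕ} {p : Fin j → V × V} (hp : IsQFrame Q p) {u : V}
    (hu : u ∈ hypPerp (polarBilin Q) p) (hu0 : u ≠ 0) (hQu : Q u = 0) :
    ∃ p' : Fin (j + 1) → V × V, IsQFrame Q p' := by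
  obtain ⟨z, hz, huz⟩ := exists_mem_ne Q hQ (hypPerp_nondeg _ (polar_isSymm Q) hQ hp.1) hu hu0
  set v := z - Q z • u with hv
  have hvW : v ∈ hypPerp (polarBilin Q) p := Submodule.sub_mem _ hz (Submodule.smul_mem _ _ hu)
  have huu : polarBilin Q u u = 0 := by rw [quad_polar_self, hQu, mul_zero]
  have hQv : Q v = 0 := by
    rw [hv, quad_sub, quad_smul, hQu, map_smul, quad_polar_comm Q z u, huz, smul_eq_mul]; ring
  have huv : polarBilin Q u v = 1 := by rw [hv, map_sub, map_smul, huz, huu, smul_zero, sub_zero]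
  have hvv : polarBilin Q v v = 0 := by rw [quad_polar_self, hQv, mul_zero]
  have hu' := (mem_hypPerp _).mp hu
  have hv' := (mem_hypPerp _).mp hvW
  refine ⟨Fin.snoc p (u, v), fun x y => ?_, fun x => ?_⟩
  · refine Fin.lastCases ?_ (fun x' => ?_) x <;> refine Fin.lastCases ?_ (fun y' => ?_) y <;>
      simp only [Fin.snoc_last, Fin.snoc_castSucc]
    · exact ⟨huu, hvv, by simpa using huv⟩
    · refine ⟨by rw [quad_polar_comm]; exact (hu' y').1, by rw [quad_polar_comm]; exact (hv' y').2, ?_⟩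
      rw [if_neg (Fin.castSucc_lt_last y').ne', quad_polar_comm]
      exact (hu' y').2
    · refine ⟨(hu' x').1, (hv' x').2, ?_⟩
      rw [if_neg (Fin.castSucc_lt_last x').ne]
      exact (hv' x').1
    · refine ⟨(hp.1 x' y').1, (hp.1 x' y').2.1, ?_⟩
      rw [(hp.1 x' y').2.2]
      simp only [Fin.castSucc_inj]
  · refine Fin.lastCases ?_ (fun x' => ?_) x <;> simp only [Fin.snoc_last, Fin.snoc_castSucc]
    · exact ⟨hQu, hQv⟩
    · exact hp.2 x'

include hQ in
theorem exists_qFrame [Finite F] : ∀ j, 2 * j + 1 ≤ finrank F V → ∃ p : Fin j → V × V, IsQFrame Q p := by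
  intro j
  induction j with
  | zero => exact fun _ => ⟨Fin.elim0, fun a => a.elim0, fun a => a.elim0⟩
  | succ j ih =>
    intro hj
    obtain ⟨p, hp⟩ := ih (by omega)
    obtain ⟨u, hu, hu0, hQu⟩ := exists_singular_mem Q (hypPerp (polarBilin Q) p) (by
      have := finrank_hypPerp_ge (polarBilin Q) p
      omega)
    exact frame_snoc Q hQ hp hu hu0 hQu

/-- The vectors of a frame and an independent family orthogonal to it. -/
def frameVec {j : ℕ} {ι : Type*} (p : Fin j → V × V) (w : ι → V) : (Fin j ⊕ Fin j) ⊕ ι → V :=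
  Sum.elim (Sum.elim (fun a => (p a).1) fun a => (p a).2) w

theorem linearIndependent_frameVec {j : ℕ} {ι : Type*} [Fintype ι] {p : Fin j → V × V} (hp : IsQFrame Q p) {w : ι → V}
    (hw : ∀ i, w i ∈ hypPerp (polarBilin Q) p) (hli : LinearIndependent F w) :
    LinearIndependent F (frameVec p w) := by
  rw [Fintype.linearIndependent_iff]
  intro c hc
  simp only [frameVec, Fintype.sum_sum_type, Sum.elim_inl, Sum.elim_inr] at hc
  have h1 : ∀ a, c (Sum.inl (Sum.inl a)) = 0 := fun a => by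
    have h := congrArg (polarBilin Q (p a).2) hc
    have e : ∀ b, polarBilin Q (p a).2 (p b).1 = if b = a then 1 else 0 := fun b => by
      rw [quad_polar_comm, (hp.1 b a).2.2]
    simpa [map_add, map_sum, map_smul, (hp.1 a _).2.1, e, fun i => ((mem_hypPerp _).mp (hw i) a).2] using h
  have h2 : ∀ a, c (Sum.inl (Sum.inr a)) = 0 := fun a => by
    have h := congrArg (polarBilin Q (p a).1) hc
    simpa [map_add, map_sum, map_smul, (hp.1 a _).1, (hp.1 a _).2.2, fun i => ((mem_hypPerp _).mp (hw i) a).1] using h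
  simp only [h1, h2, zero_smul, Finset.sum_const_zero, zero_add] at hc
  intro k
  rcases k with (a | a) | i
  · exact h1 a
  · exact h2 a
  · exact Fintype.linearIndependent_iff.mp hli _ hc i

theorem finrank_hypPerp_le {j : ℕ} {p : Fin j → V × V} (hp : IsQFrame Q p) :
    finrank F (hypPerp (polarBilin Q) p) + 2 * j ≤ finrank F V := by
  have hli := (Module.finBasis F (hypPerp (polarBilin Q) p)).linearIndependent.map'
    (hypPerp (polarBilin Q) p).subtype (Submodule.ker_subtype _)
  have h := (linearIndependent_frameVec Q hp (fun i => Subtype.mem _) hli).fintype_card_le_finrank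
  simp only [Fintype.card_sum, Fintype.card_fin] at h
  omega

/-- A hyperbolic basis. -/
def IsHypBasis {m : ℕ} (b : Module.Basis (Fin m ⊕ Fin m) F V) : Prop :=
  (∀ i, Q (b (Sum.inl i)) = 0 ∧ Q (b (Sum.inr i)) = 0) ∧
    (∀ i j, QuadraticMap.polar ⇑Q (b (Sum.inl i)) (b (Sum.inr j)) = if i = j then 1 else 0) ∧
    (∀ i j, QuadraticMap.polar ⇑Q (b (Sum.inl i)) (b (Sum.inl j)) = 0 ∧
      QuadraticMap.polar ⇑Q (b (Sum.inr i)) (b (Sum.inr j)) = 0)

/-- An elliptic basis. -/
def IsEllBasis {k : ℕ} (b : Module.Basis ((Fin k ⊕ Fin k) ⊕ Fin 2) F V) (ζ : F) : Prop :=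
  (∀ t : F, t ^ 2 + t + ζ ≠ 0) ∧ (∀ i, Q (b (Sum.inl (Sum.inl i))) = 0 ∧ Q (b (Sum.inl (Sum.inr i))) = 0) ∧
    (∀ i j, QuadraticMap.polar ⇑Q (b (Sum.inl (Sum.inl i))) (b (Sum.inl (Sum.inr j))) = if i = j then 1 else 0) ∧
    (∀ i j, QuadraticMap.polar ⇑Q (b (Sum.inl (Sum.inl i))) (b (Sum.inl (Sum.inl j))) = 0 ∧
      QuadraticMap.polar ⇑Q (b (Sum.inl (Sum.inr i))) (b (Sum.inl (Sum.inr j))) = 0) ∧
    (∀ i (k : Fin 2), QuadraticMap.polar ⇑Q (b (Sum.inl (Sum.inl i))) (b (Sum.inr k)) = 0 ∧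
      QuadraticMap.polar ⇑Q (b (Sum.inl (Sum.inr i))) (b (Sum.inr k)) = 0) ∧
    Q (b (Sum.inr 0)) = 1 ∧ QuadraticMap.polar ⇑Q (b (Sum.inr 0)) (b (Sum.inr 1)) = 1 ∧ Q (b (Sum.inr 1)) = ζ

include hQ in
/-- The two types in even dimension. -/
theorem exists_normal_basis [Finite F] {m : ℕ} (hm : 1 ≤ m) (hV : finrank F V = 2 * m) :
    (∃ b : Module.Basis (Fin m ⊕ Fin m) F V, IsHypBasis Q b) ∨
      (∃ (b : Module.Basis ((Fin (m - 1) ⊕ Fin (m - 1)) ⊕ Fin 2) F V) (ζ : F), IsEllBasis Q b ζ) := by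
  obtain ⟨k, rfl⟩ : ∃ k, m = k + 1 := ⟨m - 1, by omega⟩
  obtain ⟨p, hp⟩ := exists_qFrame Q hQ k (by omega)
  set W := hypPerp (polarBilin Q) p with hW
  have hW2 : finrank F W = 2 := by
    have h1 := finrank_hypPerp_ge (polarBilin Q) p
    have h2 := finrank_hypPerp_le Q hp
    rw [hW]; omega
  by_cases hs : ∃ u ∈ W, u ≠ 0 ∧ Q u = 0
  · left
    obtain ⟨u, hu, hu0, hQu⟩ := hs
    obtain ⟨p', hp'⟩ := frame_snoc Q hQ hp hu hu0 hQu
    have hli := (linearIndependent_frameVec Q hp' (ι := Fin 0) (w := Fin.elim0) (fun i => i.elim0)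
      linearIndependent_empty_type).comp Sum.inl Sum.inl_injective
    refine ⟨basisOfLinearIndependentOfCardEqFinrank hli (by rw [Fintype.card_sum, Fintype.card_fin, hV]; omega),
      ?_, ?_, ?_⟩ <;> simp only [coe_basisOfLinearIndependentOfCardEqFinrank]
    · exact hp'.2
    · exact fun a b => (hp'.1 a b).2.2
    · exact fun a b => ⟨(hp'.1 a b).1, (hp'.1 a b).2.1⟩
  · right
    push Not at hs
    have hnd := hypPerp_nondeg _ (polar_isSymm Q) hQ hp.1
    obtain ⟨x, hxW, hQx⟩ : ∃ x ∈ W, Q x = 1 := by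
      by_cases h2 : (2 : F) = 0
      · haveI : CharP F 2 := CharTwo.of_one_ne_zero_of_two_eq_zero one_ne_zero h2
        obtain ⟨x, hxW, hx0⟩ := (Submodule.ne_bot_iff W).mp (fun hb => by rw [hb, finrank_bot] at hW2; omega)
        obtain ⟨t, ht⟩ := isSquare_of_charTwo' (Q x)⁻¹
        exact ⟨t • x, W.smul_mem _ hxW, by rw [quad_smul, ← ht, inv_mul_cancel₀ (hs x hxW hx0)]⟩
      · exact Cfsg.Agent.Lib.Geometry.exists_quad_eq_mem Q h2 W hnd (by omega) 1 one_ne_zero
    have hx0 : x ≠ 0 := fun h => by simp [h] at hQx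
    obtain ⟨z, hzW, hxz⟩ := exists_mem_ne Q hQ hnd hxW hx0
    obtain ⟨y, hyW, hxy, hyx⟩ : ∃ y ∈ W, polarBilin Q x y = 1 ∧ y ∉ Submodule.span F {x} := by
      by_cases hzx : z ∈ Submodule.span F {x}
      · obtain ⟨z₀, hz₀W, hz₀⟩ : ∃ z₀ ∈ W, z₀ ∉ Submodule.span F {x} := by
          by_contra hc
          push Not at hc
          have := Submodule.finrank_mono (fun v hv => hc v hv : W ≤ Submodule.span F {x})
          rw [finrank_span_singleton hx0] at this
          omega
        refine ⟨z + (z₀ - polarBilin Q x z₀ • z), W.add_mem hzW (W.sub_mem hz₀W (W.smul_mem _ hzW)), ?_, fun h => hz₀ ?_⟩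
        · rw [map_add, map_sub, map_smul, hxz, smul_eq_mul, mul_one, sub_self, add_zero]
        · have := Submodule.add_mem _ (Submodule.sub_mem _ h hzx) (Submodule.smul_mem _ (polarBilin Q x z₀) hzx)
          simpa using this
      · exact ⟨z, hzW, hxz, hzx⟩
    have hli2 : LinearIndependent F ![x, y] := by
      rw [LinearIndependent.pair_iff' hx0]
      exact fun a e => hyx (Submodule.mem_span_singleton.mpr ⟨a, e⟩)
    have hw : ∀ i, ![x, y] i ∈ W := fun i => by fin_cases i <;> assumption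
    refine ⟨basisOfLinearIndependentOfCardEqFinrank (linearIndependent_frameVec Q hp hw hli2)
      (by simp only [Fintype.card_sum, Fintype.card_fin, hV]; omega), Q y, fun t h => ?_, ?_⟩
    · refine hs (t • x + y) (W.add_mem (W.smul_mem _ hxW) hyW) (fun e => ?_) ?_
      · exact hyx (Submodule.mem_span_singleton.mpr ⟨-t, by rw [neg_smul]; exact (eq_neg_of_add_eq_zero_right e).symm⟩)
      · rw [quad_add, quad_smul, hQx, map_smul, LinearMap.smul_apply, hxy, smul_eq_mul]
        linear_combination h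
    · simp only [coe_basisOfLinearIndependentOfCardEqFinrank]
      exact ⟨hp.2, fun a b => (hp.1 a b).2.2, fun a b => ⟨(hp.1 a b).1, (hp.1 a b).2.1⟩,
        fun a i => ⟨((mem_hypPerp _).mp (hw i) a).1, ((mem_hypPerp _).mp (hw i) a).2⟩, hQx, hxy, rfl⟩

include hQ in
/-- The normal form in odd dimension. -/
theorem exists_odd_basis [Finite F] {m : ℕ} (hV : finrank F V = 2 * m + 1) :
    ∃ (p : Fin m → V × V) (x : V), IsQFrame Q p ∧ x ∈ hypPerp (polarBilin Q) p ∧ Q x ≠ 0 := by
  obtain ⟨p, hp⟩ := exists_qFrame Q hQ m (by omega)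
  set W := hypPerp (polarBilin Q) p with hW
  have hW1 : finrank F W = 1 := by
    have h1 := finrank_hypPerp_ge (polarBilin Q) p
    have h2 := finrank_hypPerp_le Q hp
    rw [hW]; omega
  obtain ⟨x, hxW, hx0⟩ := (Submodule.ne_bot_iff W).mp (fun hb => by rw [hb, finrank_bot] at hW1; omega)
  refine ⟨p, x, hp, hxW, fun h => ?_⟩
  obtain ⟨p', hp'⟩ := frame_snoc Q hQ hp hxW hx0 h
  have := finrank_hypPerp_le Q hp'
  omega

end Cfsg.Agent.Lib.QuadFin
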