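import Cfsg.Prelude.Def_Classical

/-!
Totally singular subspaces of the standard hyperbolic and elliptic forms.
-/

set_option autoImplicit false

namespace Cfsg.Agent.Lib.QuadFin

variable {F : Type*} [Field F] {m : ℕ}

/-- A totally singular subspace of the elliptic form has dimension at most the number of hyperbolic pairs. -/
theorem finrank_singular_minus_le (a b : F)
    (hab : ∀ z₁ z₂ : F, z₁ ^ 2 + a * z₁ * z₂ + b * z₂ ^ 2 = 0 → z₁ = 0 ∧ z₂ = 0)
    (U : Submodule F (((Fin m ⊕ Fin m) ⊕ Fin 2) → F)) (hU : ∀ u ∈ U, Cfsg.quadFormMinus m F a b u = 0) :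
    Module.finrank F U ≤ m := by
  classical
  let X : (((Fin m ⊕ Fin m) ⊕ Fin 2) → F) →ₗ[F] (Fin m → F) := LinearMap.funLeft F F fun i => Sum.inl (Sum.inl i)
  let Y : (((Fin m ⊕ Fin m) ⊕ Fin 2) → F) →ₗ[F] (Fin m → F) := LinearMap.funLeft F F fun i => Sum.inl (Sum.inr i)
  obtain ⟨W, hW⟩ : ∃ W, W = U ⊓ LinearMap.ker Y := ⟨_, rfl⟩
  have hWU : W ≤ U := hW ▸ inf_le_left
  have hy0 : ∀ v : W, ∀ i, v.1 (Sum.inl (Sum.inr i)) = 0 := fun v i => by
    have h : v.1 ∈ U ⊓ LinearMap.ker Y := hW ▸ v.2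
    exact congrFun (LinearMap.mem_ker.mp h.2) i
  have hz0 : ∀ v : W, v.1 (Sum.inr 0) = 0 ∧ v.1 (Sum.inr 1) = 0 := fun v => by
    refine hab _ _ ?_
    have h := hU _ (hWU v.2)
    simpa [Cfsg.quadFormMinus, hy0 v] using h
  obtain ⟨px, hpx⟩ : ∃ px : W →ₗ[F] (Fin m → F), px = X.comp W.subtype := ⟨_, rfl⟩
  have hinj : Function.Injective px := by
    intro v w hvw
    refine Subtype.ext (funext fun k => ?_)
    rcases k with (i | i) | k
    · exact by simpa [hpx, X] using congrFun hvw i
    · rw [hy0 v i, hy0 w i]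
    · fin_cases k
      · exact (hz0 v).1.trans (hz0 w).1.symm
      · exact (hz0 v).2.trans (hz0 w).2.symm
  obtain ⟨Φ, hΦe⟩ : ∃ Φ : (Fin m → F) →ₗ[F] Module.Dual F W,
      Φ = px.dualMap.comp (dotProductEquiv F (Fin m)).toLinearMap := ⟨_, rfl⟩
  have hΦ : Function.Surjective Φ := by
    rw [hΦe]
    exact (LinearMap.dualMap_surjective_iff.mpr hinj).comp (dotProductEquiv F (Fin m)).surjective
  have hle : U.map Y ≤ LinearMap.ker Φ := by
    rintro _ ⟨u, hu, rfl⟩
    rw [LinearMap.mem_ker]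
    refine LinearMap.ext fun v => ?_
    have h := hU _ (U.add_mem (hWU v.2) hu)
    have hu := hU _ hu
    simp only [Cfsg.quadFormMinus, Pi.add_apply, hy0 v, (hz0 v).1, (hz0 v).2, zero_add, add_mul, Finset.sum_add_distrib] at h hu
    rw [hΦe]
    show Y u ⬝ᵥ px v = 0
    rw [hpx]
    show (∑ i, u (Sum.inl (Sum.inr i)) * v.1 (Sum.inl (Sum.inl i))) = 0
    rw [Finset.sum_congr rfl fun i _ => mul_comm _ _]
    linear_combination h - hu
  have h1 := LinearMap.finrank_range_add_finrank_ker Φ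
  rw [LinearMap.range_eq_top.mpr hΦ, finrank_top, Subspace.dual_finrank_eq, Module.finrank_fin_fun] at h1
  have h2 := LinearMap.finrank_range_add_finrank_ker (Y.comp U.subtype)
  rw [LinearMap.range_comp, Submodule.range_subtype, LinearMap.ker_comp] at h2
  have h4 : Module.finrank F ((LinearMap.ker Y).comap U.subtype) = Module.finrank F W := by
    rw [show (LinearMap.ker Y).comap U.subtype = W.comap U.subtype by rw [hW, Submodule.comap_inf, Submodule.comap_subtype_self, top_inf_eq]]
    exact (Submodule.comapSubtypeEquivOfLe hWU).finrank_eq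
  have h3 := Submodule.finrank_mono hle
  omega

/-- The standard totally singular subspace of the hyperbolic form. -/
def xSubspace (F : Type*) [Field F] (m : ℕ) : Submodule F (Fin m ⊕ Fin m → F) :=
  LinearMap.ker (LinearMap.funLeft F F (Sum.inr : Fin m → Fin m ⊕ Fin m))

theorem xSubspace_singular {u : Fin m ⊕ Fin m → F} (hu : u ∈ xSubspace F m) : Cfsg.quadFormPlus m F u = 0 := by
  refine Finset.sum_eq_zero fun i _ => ?_
  rw [show u (Sum.inr i) = 0 from congrFun (LinearMap.mem_ker.mp hu) i, mul_zero]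

theorem finrank_xSubspace : Module.finrank F (xSubspace F m) = m := by
  have h := LinearMap.finrank_range_add_finrank_ker (LinearMap.funLeft F F (Sum.inr : Fin m → Fin m ⊕ Fin m))
  rw [LinearMap.range_eq_top.mpr (LinearMap.funLeft_surjective_of_injective F F _ Sum.inr_injective), finrank_top,
    Module.finrank_fintype_fun_eq_card, Module.finrank_fintype_fun_eq_card, Fintype.card_sum, Fintype.card_fin] at h
  unfold xSubspace
  omega

end Cfsg.Agent.Lib.QuadFin
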