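import Cfsg.Agent.Lib.QuadFin.SpinorApps
import Cfsg.Agent.Lib.Geometry.MaxIsotropic

/-!
A membership criterion for `Ω` valid in every dimension and characteristic, adjustments inside
stabilisers, and the two classes of maximal totally singular subspaces.
-/

set_option autoImplicit false
set_option maxHeartbeats 800000

namespace Cfsg.Agent.Lib.QuadFin

open Matrix
open QuadraticMap (polarBilin)
open Module (finrank)
open Cfsg.Agent.Lib.Geometry

attribute [-simp] QuadraticMap.polarBilin_apply_apply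

section General

variable {F V : Type*} [Field F] [AddCommGroup V] [Module F V] [FiniteDimensional F V]
variable (Q : QuadraticForm F V)

/-- Trivial Dickson invariant, and trivial spinor norm in odd characteristic. -/
def InKer (g : quadIsometries Q) : Prop := dickson Q g = 1 ∧ ((2 : F) ≠ 0 → spinor Q g = 1)

theorem dickson_mul (hQ : (polarBilin Q).Nondegenerate)
    (hexc : (∃ a : F, a ≠ 0 ∧ a ≠ 1) ∨ finrank F V ≠ 4) (g h : quadIsometries Q) :
    dickson Q (g * h) = dickson Q g * dickson Q h :=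
  map_mul (dicksonHom Q hQ (closure_refl_eq_top Q hQ hexc)) g h

theorem spinor_mul [Finite F] (hQ : (polarBilin Q).Nondegenerate)
    (hexc : (∃ a : F, a ≠ 0 ∧ a ≠ 1) ∨ finrank F V ≠ 4) (g h : quadIsometries Q) :
    spinor Q (g * h) = spinor Q g * spinor Q h :=
  map_mul (spinorHom Q hQ (closure_refl_eq_top Q hQ hexc)) g h

theorem dickson_refl (hQ : (polarBilin Q).Nondegenerate) {v : V} (hv : Q v ≠ 0) :
    dickson Q (refl Q v) = -1 := by
  rw [← mul_one (refl Q v), dickson_refl_mul Q hQ 1 hv, dickson_one]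

theorem spinor_refl [Finite F] (hQ : (polarBilin Q).Nondegenerate) {v : V} (hv : Q v ≠ 0) :
    spinor Q (refl Q v) = sqClass (Q v) := by
  rw [← mul_one (refl Q v), spinor_refl_mul Q hQ 1 hv, spinor_one Q hQ, mul_one]

/-- Adjust into the kernel inside a set closed under products. -/
theorem exists_adjust [Finite F] (hQ : (polarBilin Q).Nondegenerate)
    (hexc : (∃ a : F, a ≠ 0 ∧ a ≠ 1) ∨ finrank F V ≠ 4) (P : quadIsometries Q → Prop)
    (h1 : P 1) (hmul : ∀ a b, P a → P b → P (a * b)) {r : quadIsometries Q} (hr : P r)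
    (hrd : dickson Q r = -1)
    (hs : (2 : F) ≠ 0 → ∃ s, P s ∧ dickson Q s = 1 ∧ spinor Q s = -1) (g : quadIsometries Q) :
    ∃ h, P h ∧ InKer Q (h * g) := by
  obtain ⟨k, hk, hkd⟩ : ∃ k, P k ∧ dickson Q (k * g) = 1 := by
    rcases Int.units_eq_one_or (dickson Q g) with h | h
    · exact ⟨1, h1, by rw [one_mul, h]⟩
    · exact ⟨r, hr, by rw [dickson_mul Q hQ hexc, hrd, h]; decide⟩
  by_cases h2 : (2 : F) = 0
  · exact ⟨k, hk, hkd, fun h => absurd h2 h⟩
  rcases Int.units_eq_one_or (spinor Q (k * g)) with h | h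
  · exact ⟨k, hk, hkd, fun _ => h⟩
  · obtain ⟨s, hsP, hsd, hss⟩ := hs h2
    refine ⟨s * k, hmul _ _ hsP hk, ?_, fun _ => ?_⟩
    · rw [mul_assoc, dickson_mul Q hQ hexc, hsd, hkd, one_mul]
    · rw [mul_assoc, spinor_mul Q hQ hexc, hss, h]; decide

/-- The Dickson invariant of `g` is the parity of the codimension of `U ∩ gU` in `U`. -/
theorem dickson_eq_codim (hQ : (polarBilin Q).Nondegenerate)
    (hexc : (∃ a : F, a ≠ 0 ∧ a ≠ 1) ∨ finrank F V ≠ 4) {m : ℕ} (hn : finrank F V = 2 * m)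
    (U : Submodule F V) (hUm : finrank F U = m) (hU0 : ∀ u ∈ U, Q u = 0) (g : quadIsometries Q) :
    dickson Q g = (-1) ^ (m - finrank F ↥(U ⊓ U.map ((g : V ≃ₗ[F] V) : V →ₗ[F] V))) := by
  let mv : quadIsometries Q → Submodule F V := fun h => U.map ((h : V ≃ₗ[F] V) : V →ₗ[F] V)
  let χ : quadIsometries Q → ℤˣ := fun h => (-1) ^ (m - finrank F ↥(U ⊓ mv h))
  have hdim : ∀ h, finrank F ↥(mv h) = m := fun h => by rw [LinearEquiv.finrank_map_eq]; exact hUm
  have hsing : ∀ h, ∀ u ∈ mv h, Q u = 0 := by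
    rintro h _ ⟨u, hu, rfl⟩
    exact (h.2 u).trans (hU0 u hu)
  have hχ : ∀ a b, χ (a * b) = χ a * χ b := by
    intro a b
    have h := even_codim_sum Q hQ hn (U := U) (W := mv a) (X := mv (a * b)) hUm hU0
      (hdim a) (hsing a) (hdim _) (hsing _)
    have e : finrank F ↥(mv a ⊓ mv (a * b)) = finrank F ↥(U ⊓ mv b) := by
      have hab : mv (a * b) = (mv b).map ((a : V ≃ₗ[F] V) : V →ₗ[F] V) := by
        rw [← Submodule.map_comp]; rfl
      rw [hab]
      show finrank F ↥(U.map _ ⊓ (mv b).map _) = _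
      rw [← Submodule.map_inf _ (LinearEquiv.injective _), LinearEquiv.finrank_map_eq]
    rw [e] at h
    show (-1 : ℤˣ) ^ _ = (-1) ^ _ * (-1) ^ _
    rw [← pow_add]
    refine neg_one_pow_congr ?_
    rw [Nat.even_add, iff_comm] at h
    exact h
  let χh : quadIsometries Q →* ℤˣ := MonoidHom.mk' χ hχ
  have heq : dicksonHom Q hQ (closure_refl_eq_top Q hQ hexc) = χh := by
    refine MonoidHom.eq_of_eqOn_dense (closure_refl_eq_top Q hQ hexc) ?_
    rintro _ ⟨v, hv, rfl⟩
    show dicksonHom Q hQ (closure_refl_eq_top Q hQ hexc) (refl Q v) = χ (refl Q v)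
    rw [dicksonHom_refl Q hQ _ hv]
    have hfix : U ⊓ mv (refl Q v) = U ⊓ LinearMap.ker (polarBilin Q v) := by
      ext x
      constructor
      · rintro ⟨hx, y, hy, rfl⟩
        refine ⟨hx, ?_⟩
        show polarBilin Q v ((refl Q v : V ≃ₗ[F] V) y) = 0
        by_contra hne
        change (refl Q v : V ≃ₗ[F] V) y ∈ U at hx
        rw [refl_apply] at hx
        have hvU : (Q v)⁻¹ * polarBilin Q v y ≠ 0 := fun h0 => by
          rcases mul_eq_zero.mp h0 with h0 | h0
          · exact inv_ne_zero hv h0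
          · apply hne
            rw [refl_apply, map_sub, map_smul, h0, mul_zero, zero_smul, sub_zero]
        have hsm := U.sub_mem hy hx
        rw [sub_sub_cancel, U.smul_mem_iff hvU] at hsm
        exact hv (hU0 v hsm)
      · rintro ⟨hx, hx0⟩
        refine ⟨hx, x, hx, ?_⟩
        show (refl Q v : V ≃ₗ[F] V) x = x
        rw [refl_apply, show polarBilin Q v x = 0 from hx0, mul_zero, zero_smul, sub_zero]
    have hne : (polarBilin Q v).comp U.subtype ≠ 0 := by
      intro h0
      have hvU : v ∈ polarPerp Q U := fun u hu => by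
        show polarBilin Q u v = 0
        rw [quad_polar_comm]; exact LinearMap.congr_fun h0 ⟨u, hu⟩
      rw [polarPerp_eq_self Q hQ hn hUm hU0] at hvU
      exact hv (hU0 v hvU)
    have hk := LinearMap.finrank_range_add_finrank_ker ((polarBilin Q v).comp U.subtype)
    rw [LinearMap.range_eq_top.mpr (LinearMap.surjective hne), finrank_top, Module.finrank_self,
      hUm] at hk
    have hki : finrank F ↥(LinearMap.ker ((polarBilin Q v).comp U.subtype)) =
        finrank F ↥(U ⊓ LinearMap.ker (polarBilin Q v)) := by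
      rw [LinearEquiv.finrank_eq (Submodule.equivMapOfInjective U.subtype U.injective_subtype _),
        LinearMap.ker_comp, Submodule.map_comap_subtype]
    show -1 = (-1 : ℤˣ) ^ (m - finrank F ↥(U ⊓ mv (refl Q v)))
    rw [hfix, show m - finrank F ↥(U ⊓ LinearMap.ker (polarBilin Q v)) = 1 by omega, pow_one]
  exact DFunLike.congr_fun heq g

/-- A vector off a totally singular subspace, orthogonal to it and non-singular. -/
theorem exists_nonsingular_perp (hQ : (polarBilin Q).Nondegenerate) (W : Submodule F V)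
    (hk : 2 * finrank F W < finrank F V) (hW0 : ∀ w ∈ W, Q w = 0) :
    ∃ v, (∀ w ∈ W, polarBilin Q v w = 0) ∧ Q v ≠ 0 := by
  by_contra hall
  push Not at hall
  have hsing : ∀ v ∈ polarPerp Q W, Q v = 0 := fun v hv => hall v fun w hw => by
    rw [quad_polar_comm]; exact hv w hw
  have hle : polarPerp Q W ≤ polarPerp Q (polarPerp Q W) := fun x hx u hu =>
    polar_eq_zero_of_singular Q hsing u hu x hx
  rw [polarPerp_polarPerp Q hQ] at hle
  have h := Submodule.finrank_mono hle
  rw [finrank_polarPerp Q hQ] at h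
  omega

/-- Stabilising elements of a non-zero totally singular subspace, of either spinor norm. -/
theorem exists_stab_spinor [Finite F] (hQ : (polarBilin Q).Nondegenerate) (h2 : (2 : F) ≠ 0)
    (W : Submodule F V) (hW : W ≠ ⊥) (hW0 : ∀ w ∈ W, Q w = 0) :
    ∃ s : quadIsometries Q, (∀ w ∈ W, (s : V ≃ₗ[F] V) w ∈ W) ∧ dickson Q s = 1 ∧ spinor Q s = -1 := by
  obtain ⟨e, he, he0⟩ := W.exists_mem_ne_zero_of_ne_bot hW
  obtain ⟨f, hf1, hf0⟩ : ∃ f, polarBilin Q e f = 1 ∧ Q f = 0 := by
    obtain ⟨y, hy⟩ : ∃ y, polarBilin Q e y ≠ 0 := by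
      by_contra hall
      push Not at hall
      exact he0 (hQ.1 e hall)
    obtain ⟨y', h1⟩ : ∃ y', polarBilin Q e y' = 1 :=
      ⟨(polarBilin Q e y)⁻¹ • y, by rw [map_smul, smul_eq_mul, inv_mul_cancel₀ hy]⟩
    refine ⟨y' - Q y' • e, ?_, ?_⟩
    · rw [map_sub, map_smul, h1, quad_polar_self, hW0 e he]; simp
    · rw [quad_sub, quad_smul, map_smul, quad_polar_comm Q y' e, h1, hW0 e he]; simp
  obtain ⟨t, ht0, ht⟩ : ∃ t : F, t ≠ 0 ∧ ¬ IsSquare t := by
    haveI := Fintype.ofFinite F
    obtain ⟨t, ht⟩ := FiniteField.exists_nonsquare (F := F) fun h => h2 (by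
      have h3 : ((2 : ℕ) : F) = 0 := by rw [← h]; exact ringChar.Nat.cast_ringChar
      exact_mod_cast h3)
    exact ⟨t, fun h0 => ht (h0 ▸ IsSquare.zero), ht⟩
  have hee : Q e = 0 := hW0 e he
  have hq1 : Q (e - f) = -1 := by rw [quad_sub, hee, hf0, hf1]; ring
  have hqt : Q (e - t • f) = -t := by
    rw [quad_sub, quad_smul, map_smul, hee, hf0, hf1, smul_eq_mul]; ring
  refine ⟨refl Q (e - f) * refl Q (e - t • f), fun w hw => ?_, ?_, ?_⟩
  · show (refl Q (e - f) : V ≃ₗ[F] V) ((refl Q (e - t • f) : V ≃ₗ[F] V) w) ∈ W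
    have hew : polarBilin Q e w = 0 := polar_eq_zero_of_singular Q hW0 e he w hw
    set c := polarBilin Q f w with hc
    have e1 : (refl Q (e - t • f) : V ≃ₗ[F] V) w = w - c • (e - t • f) := by
      rw [refl_apply, hqt, map_sub, map_smul, LinearMap.sub_apply, LinearMap.smul_apply, hew,
        smul_eq_mul, zero_sub, ← hc]
      congr 2
      field_simp
    rw [e1, refl_apply, hq1]
    have hsm : polarBilin Q (e - f) (w - c • (e - t • f)) = c * t := by
      have : polarBilin Q f e = 1 := by rw [quad_polar_comm]; exact hf1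
      simp only [map_sub, map_smul, LinearMap.sub_apply, smul_eq_mul, hew, hf1, quad_polar_self,
        hee, hf0, this, ← hc]
      ring
    rw [hsm, show w - c • (e - t • f) - ((-1 : F)⁻¹ * (c * t)) • (e - f) = w + (c * t - c) • e by
      rw [inv_neg_one, neg_one_mul]; module]
    exact W.add_mem hw (W.smul_mem _ he)
  · rw [dickson_refl_mul Q hQ _ (by rw [hq1]; exact neg_ne_zero.mpr one_ne_zero),
      dickson_refl Q hQ (by rw [hqt]; exact neg_ne_zero.mpr ht0), neg_neg]
  · rw [spinor_refl_mul Q hQ _ (by rw [hq1]; exact neg_ne_zero.mpr one_ne_zero),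
      spinor_refl Q hQ (by rw [hqt]; exact neg_ne_zero.mpr ht0), hq1, hqt,
      ← sqClass_mul (neg_ne_zero.mpr one_ne_zero) (neg_ne_zero.mpr ht0), neg_one_mul, neg_neg,
      sqClass_eq_neg_one_iff.mpr ht]

/-- Witt's theorem for a pair of totally singular subspaces of one dimension. -/
theorem exists_map_eq_singular (hQ : (polarBilin Q).Nondegenerate) (U W : Submodule F V)
    (hd : finrank F U = finrank F W) (hU0 : ∀ u ∈ U, Q u = 0) (hW0 : ∀ w ∈ W, Q w = 0) :
    ∃ g : quadIsometries Q, U.map ((g : V ≃ₗ[F] V) : V →ₗ[F] V) = W := by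
  let e : U ≃ₗ[F] W := LinearEquiv.ofFinrankEq U W hd
  obtain ⟨g, hg, hge⟩ := witt_quadratic Q hQ U (W.subtype.comp e.toLinearMap)
    (W.injective_subtype.comp e.injective) fun x => by
      show Q (e x : V) = _
      rw [hW0 _ (e x).2, hU0 _ x.2]
  refine ⟨⟨g, hg⟩, le_antisymm ?_ fun w hw => ?_⟩
  · rintro _ ⟨u, hu, rfl⟩
    show g u ∈ W
    rw [show g u = (e ⟨u, hu⟩ : V) from hge ⟨u, hu⟩]
    exact (e _).2
  · obtain ⟨u, hu⟩ := e.surjective ⟨w, hw⟩
    exact ⟨u, u.2, (hge u).trans (congrArg Subtype.val hu)⟩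

theorem map_eq_of_stab {W : Submodule F V} (h : quadIsometries Q)
    (hh : ∀ w ∈ W, (h : V ≃ₗ[F] V) w ∈ W) : W.map ((h : V ≃ₗ[F] V) : V →ₗ[F] V) = W :=
  Submodule.eq_of_le_of_finrank_eq (by rintro _ ⟨w, hw, rfl⟩; exact hh w hw)
    (LinearEquiv.finrank_map_eq _ _)

end General

section Coord

variable {F : Type*} [Field F] [Finite F] {ι : Type} [Fintype ι] [DecidableEq ι]
variable (Q : QuadraticForm F (ι → F))

theorem mem_Omega_criterion (hQ : (polarBilin Q).Nondegenerate)
    (hexc : (∃ a : F, a ≠ 0 ∧ a ≠ 1) ∨ Fintype.card ι ≠ 4) (g : Cfsg.isometryGroup F (⇑Q)) :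
    g ∈ Cfsg.Omega F (⇑Q) ↔ InKer Q (isometryEquiv Q g) := by
  by_cases hn : 2 ≤ Fintype.card ι
  · by_cases h2 : (2 : F) = 0
    · haveI : CharP F 2 := (CharP.charP_iff_prime_eq_zero Nat.prime_two).mpr (by exact_mod_cast h2)
      rw [mem_Omega_iff_even Q hQ (by omega) hexc]
      exact ⟨fun h => ⟨h, fun h' => absurd h2 h'⟩, fun h => h.1⟩
    · rw [mem_Omega_iff Q hQ h2 hn]
      exact ⟨fun h => ⟨h.1, fun _ => h.2⟩, fun h => ⟨h.1, h.2 h2⟩⟩
  · haveI : Subsingleton ι := Fintype.card_le_one_iff_subsingleton.mp (by omega)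
    have hcomm : ∀ a b : Cfsg.isometryGroup F (⇑Q), a * b = b * a := fun a b => by
      refine Subtype.ext (Units.ext (Matrix.ext fun i j => ?_))
      rw [Subgroup.coe_mul, Subgroup.coe_mul, Units.val_mul, Units.val_mul, Matrix.mul_apply, Matrix.mul_apply]
      refine Finset.sum_congr rfl fun k _ => ?_
      rw [Subsingleton.elim j i, Subsingleton.elim k i, mul_comm]
    have hbot : Cfsg.Omega F (⇑Q) = ⊥ := by
      rw [eq_bot_iff]
      show commutator _ ≤ ⊥
      rw [commutator_def, Subgroup.commutator_le]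
      intro a _ b _
      rw [Subgroup.mem_bot, commutatorElement_eq_one_iff_mul_comm]
      exact hcomm a b
    rw [hbot, Subgroup.mem_bot]
    constructor
    · rintro rfl
      rw [map_one]
      exact ⟨dickson_one Q, fun _ => spinor_one Q hQ⟩
    · rintro ⟨hd, -⟩
      have hle : finrank F (movedSpace Q (isometryEquiv Q g)) ≤ 1 :=
        (Submodule.finrank_le _).trans (by rw [Module.finrank_fintype_fun_eq_card]; omega)
      have h0 : finrank F (movedSpace Q (isometryEquiv Q g)) = 0 := by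
        rcases Nat.le_one_iff_eq_zero_or_eq_one.mp hle with h | h
        · exact h
        · exfalso; rw [dickson, h, pow_one] at hd; exact absurd hd (by decide)
      exact (isometryEquiv Q).injective (by rw [map_one]; exact eq_one_of_finrank_moved_eq_zero Q _ h0)

/-- Transfer a kernel element with a mapping property to `Ω`. -/
theorem exists_mem_Omega_map (hQ : (polarBilin Q).Nondegenerate)
    (hexc : (∃ a : F, a ≠ 0 ∧ a ≠ 1) ∨ Fintype.card ι ≠ 4) (U W : Submodule F (ι → F))
    (h : quadIsometries Q) (hk : InKer Q h)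
    (hm : U.map ((h : (ι → F) ≃ₗ[F] (ι → F)) : (ι → F) →ₗ[F] (ι → F)) = W) :
    ∃ g : Cfsg.isometryGroup F (⇑Q), g ∈ Cfsg.Omega F (⇑Q) ∧
      U.map (Matrix.mulVecLin ((g : Matrix.GeneralLinearGroup ι F) : Matrix ι ι F)) = W := by
  refine ⟨(isometryEquiv Q).symm h, ?_, ?_⟩
  · rw [mem_Omega_criterion Q hQ hexc, MulEquiv.apply_symm_apply]
    exact hk
  · rw [← hm]
    congr 1
    refine LinearMap.ext fun x => ?_
    have h1 := isometryEquiv_apply Q ((isometryEquiv Q).symm h) x
    rw [MulEquiv.apply_symm_apply] at h1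
    rw [Matrix.mulVecLin_apply, ← h1]
    rfl

end Coord

end Cfsg.Agent.Lib.QuadFin
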