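import Cfsg.Agent.Lib.Geometry.OrthTransfer
import Cfsg.Agent.Lib.Geometry.OrthNegOne
import Cfsg.Agent.Lib.QuadFin.Normal

/-!
Applications of the spinor norm and the Dickson invariant: products of reflections, diagonal
involutions, the Levi subgroup of a hyperbolic space.
-/

set_option autoImplicit false
set_option maxHeartbeats 800000

namespace Cfsg.Agent.Lib.QuadFin

open Matrix
open QuadraticMap (polarBilin)
open Module (finrank)
open Cfsg.Agent.Lib.Geometry

attribute [-simp] QuadraticMap.polarBilin_apply_apply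

theorem sqClass_list_prod {F : Type*} [Field F] [Finite F] :
    ∀ l : List F, (∀ x ∈ l, x ≠ 0) → sqClass l.prod = (l.map sqClass).prod := by
  intro l
  induction l with
  | nil => intro _; simpa using sqClass_eq_one_iff.mpr IsSquare.one
  | cons a l ih =>
    intro h
    have hl : ∀ x ∈ l, x ≠ 0 := fun x hx => h x (List.mem_cons_of_mem _ hx)
    rw [List.prod_cons, List.map_cons, List.prod_cons,
      sqClass_mul (h a List.mem_cons_self) (List.prod_ne_zero fun h0 => hl 0 h0 rfl), ih hl]

section General

variable {F V : Type*} [Field F] [AddCommGroup V] [Module F V] [FiniteDimensional F V]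
variable (Q : QuadraticForm F V)

theorem dickson_list (hQ : (polarBilin Q).Nondegenerate) :
    ∀ vs : List V, (∀ v ∈ vs, Q v ≠ 0) →
      dickson Q (vs.map (refl Q)).prod = (-1) ^ vs.length := by
  intro vs
  induction vs with
  | nil => intro _; simpa using dickson_one Q
  | cons v vs ih =>
    intro h
    rw [List.map_cons, List.prod_cons, dickson_refl_mul Q hQ _ (h v List.mem_cons_self),
      ih (fun x hx => h x (List.mem_cons_of_mem _ hx)), List.length_cons, pow_succ, mul_neg_one]

theorem spinor_list [Finite F] (hQ : (polarBilin Q).Nondegenerate) :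
    ∀ vs : List V, (∀ v ∈ vs, Q v ≠ 0) →
      spinor Q (vs.map (refl Q)).prod = (vs.map fun v => sqClass (Q v)).prod := by
  intro vs
  induction vs with
  | nil => intro _; simpa using spinor_one Q hQ
  | cons v vs ih =>
    intro h
    rw [List.map_cons, List.prod_cons, spinor_refl_mul Q hQ _ (h v List.mem_cons_self),
      ih (fun x hx => h x (List.mem_cons_of_mem _ hx)), List.map_cons, List.prod_cons]

/-- The moved space of a frame. -/
theorem finrank_moved_eq_of_frame (g : quadIsometries Q) {ι : Type*} [Fintype ι] (a : ι → V)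
    (hli : LinearIndependent F fun i => oneSub Q g (a i))
    (hspan : ∀ x, oneSub Q g x ∈ Submodule.span F (Set.range fun i => oneSub Q g (a i))) :
    finrank F (movedSpace Q g) = Fintype.card ι := by
  have h : movedSpace Q g = Submodule.span F (Set.range fun i => oneSub Q g (a i)) :=
    le_antisymm (by rintro _ ⟨x, rfl⟩; exact hspan x)
      (Submodule.span_le.mpr (by rintro _ ⟨i, rfl⟩; exact ⟨a i, rfl⟩))
  rw [h]
  exact finrank_span_eq_card hli

/-- The invariants of an isometry from an indexed Wall frame. -/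
theorem invariants_of_frame (hQ : (polarBilin Q).Nondegenerate) (g : quadIsometries Q) {ι : Type*}
    [Fintype ι] [DecidableEq ι] (a : ι → V) (hli : LinearIndependent F fun i => oneSub Q g (a i))
    (hspan : ∀ x, oneSub Q g x ∈ Submodule.span F (Set.range fun i => oneSub Q g (a i))) :
    dickson Q g = (-1) ^ Fintype.card ι ∧
      spinor Q g = sqClass (Matrix.of fun i j => polarBilin Q (oneSub Q g (a i)) (a j)).det := by
  have hfr := finrank_moved_eq_of_frame Q g a hli hspan
  refine ⟨by rw [dickson, hfr], ?_⟩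
  let e := Fintype.equivFin ι
  have hf : IsWallFrame Q g (fun i => a (e.symm i)) :=
    ⟨hli.comp e.symm e.symm.injective, hfr.symm⟩
  rw [spinor_eq Q hQ hf, ← Matrix.det_submatrix_equiv_self e.symm
    (Matrix.of fun i j => polarBilin Q (oneSub Q g (a i)) (a j))]
  rfl

end General

section Coord

variable {F : Type*} [Field F] {ι : Type} [Fintype ι] [DecidableEq ι]
variable (Q : QuadraticForm F (ι → F))

theorem isometryEquiv_of_list (g : Cfsg.isometryGroup F (⇑Q)) (vs : List (ι → F))
    (h : ((g : Matrix.GeneralLinearGroup ι F) : Matrix ι ι F) =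
      (vs.map fun v => Cfsg.reflectionMatrix (⇑Q) v).prod) :
    isometryEquiv Q g = (vs.map (refl Q)).prod := by
  refine isometryEquiv_ext Q fun x => ?_
  rw [h]
  clear h
  induction vs generalizing x with
  | nil => simp
  | cons v vs ih =>
    rw [List.map_cons, List.prod_cons, ← Matrix.mulVec_mulVec, ih, reflectionMatrix_mulVec,
      List.map_cons, List.prod_cons, Subgroup.coe_mul, LinearEquiv.mul_apply, refl_apply]

theorem mem_Omega_iff_even [Finite F] [CharP F 2] (hQ : (polarBilin Q).Nondegenerate)
    (hn : 1 ≤ Fintype.card ι) (hexc : (∃ a : F, a ≠ 0 ∧ a ≠ 1) ∨ Fintype.card ι ≠ 4)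
    (g : Cfsg.isometryGroup F (⇑Q)) :
    g ∈ Cfsg.Omega F (⇑Q) ↔ dickson Q (isometryEquiv Q g) = 1 := by
  have hn' : 1 ≤ finrank F (ι → F) := by rwa [Module.finrank_fintype_fun_eq_card]
  have hexc' : (∃ a : F, a ≠ 0 ∧ a ≠ 1) ∨ finrank F (ι → F) ≠ 4 := by
    rwa [Module.finrank_fintype_fun_eq_card]
  have h := commutator_eq_ker_dicksonHom Q hQ hn' hexc'
  have h' : isometryEquiv Q g ∈ commutator (quadIsometries Q) ↔ g ∈ Cfsg.Omega F (⇑Q) := by
    rw [← map_commutator_of_equiv (isometryEquiv Q), Subgroup.mem_map_equiv,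
      MulEquiv.symm_apply_apply]
  rw [← h', h, MonoidHom.mem_ker]
  rfl

/-- The element with diagonal matrix `d`, `d k = ±1`, and its membership in `Ω`. -/
theorem exists_diag_mem_Omega_iff [Finite F] (hQ : (polarBilin Q).Nondegenerate)
    (h2 : (2 : F) ≠ 0) (hn : 2 ≤ Fintype.card ι) (s : ι → Prop) [DecidablePred s]
    (hs : ∀ k l, s k → ¬ s l → polarBilin Q (Pi.single k 1) (Pi.single l 1) = 0) :
    (∃ g : Cfsg.isometryGroup F (⇑Q), g ∈ Cfsg.Omega F (⇑Q) ∧
      ((g : Matrix.GeneralLinearGroup ι F) : Matrix ι ι F) =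
        Matrix.diagonal fun k => if s k then (-1 : F) else 1) ↔
    Even (Fintype.card {k // s k}) ∧
      sqClass ((2 : F) ^ Fintype.card {k // s k} * (Matrix.of fun i j : {k // s k} =>
        polarBilin Q (Pi.single (i : ι) 1) (Pi.single (j : ι) 1)).det) = 1 := by
  classical
  set d : ι → F := fun k => if s k then (-1 : F) else 1 with hd
  have hdd : ∀ k, d k * d k = 1 := fun k => by by_cases h : s k <;> simp [hd, h]
  have hmul : Matrix.diagonal d * Matrix.diagonal d = 1 := by
    rw [Matrix.diagonal_mul_diagonal]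
    exact (congrArg Matrix.diagonal (funext hdd)).trans Matrix.diagonal_one
  have hsc : ∀ (k : ι) (c : F), (Pi.single k (c * 1) : ι → F) = c • Pi.single k 1 := fun k c => by
    rw [← Pi.single_smul, smul_eq_mul]
  have hiso : ∀ x, Q (Matrix.diagonal d *ᵥ x) = Q x := by
    intro x
    refine (quad_ext_basis Q (Pi.basisFun F ι) (Q.comp (Matrix.toLin' (Matrix.diagonal d)))
      (fun k => ?_) (fun k l => ?_) x).symm
    · rw [QuadraticMap.comp_apply, Pi.basisFun_apply, Matrix.toLin'_apply,
        Matrix.diagonal_mulVec_single, hsc, quad_smul, hdd, one_mul]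
    · have hc : polarBilin (Q.comp (Matrix.toLin' (Matrix.diagonal d))) (Pi.single k 1)
          (Pi.single l 1) = polarBilin Q (Matrix.toLin' (Matrix.diagonal d) (Pi.single k 1))
            (Matrix.toLin' (Matrix.diagonal d) (Pi.single l 1)) := by
        simp only [QuadraticMap.polarBilin_apply_apply, QuadraticMap.polar,
          QuadraticMap.comp_apply, map_add]
      rw [Pi.basisFun_apply, Pi.basisFun_apply, hc, Matrix.toLin'_apply, Matrix.toLin'_apply,
        Matrix.diagonal_mulVec_single, Matrix.diagonal_mulVec_single, hsc, hsc,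
        map_smul, map_smul, LinearMap.smul_apply, smul_eq_mul, smul_eq_mul]
      by_cases hk : s k <;> by_cases hl : s l
      · simp [hd, hk, hl]
      · rw [hs k l hk hl]; ring
      · rw [quad_polar_comm, hs l k hl hk]; ring
      · simp [hd, hk, hl]
  let g₀ : Cfsg.isometryGroup F (⇑Q) :=
    ⟨⟨Matrix.diagonal d, Matrix.diagonal d, hmul, hmul⟩, mem_isometryGroup_iff.mpr hiso⟩
  have hone : ∀ x, oneSub Q (isometryEquiv Q g₀) x = x - Matrix.diagonal d *ᵥ x := fun x => by
    rw [oneSub_apply, isometryEquiv_apply]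
  have hsingle : ∀ k : {k // s k},
      oneSub Q (isometryEquiv Q g₀) (Pi.single (k : ι) 1) = (2 : F) • Pi.single (k : ι) 1 := by
    intro k
    rw [hone, Matrix.diagonal_mulVec_single, ← Pi.single_smul, smul_eq_mul, mul_one, ← Pi.single_sub,
      mul_one, show d (k : ι) = -1 from if_pos k.2]
    norm_num
  obtain ⟨hD, hS⟩ := invariants_of_frame Q hQ (isometryEquiv Q g₀)
    (fun k : {k // s k} => (Pi.single (k : ι) 1 : ι → F))
    (by
      simp only [hsingle]
      exact ((Pi.basisFun F ι).linearIndependent.comp _ Subtype.val_injective |> fun h => by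
        simpa [Function.comp_def, Pi.basisFun_apply] using h :
          LinearIndependent F fun k : {k // s k} => (Pi.single (k : ι) 1 : ι → F)).units_smul
            fun _ => Units.mk0 2 h2)
    (fun x => by
      have hx : oneSub Q (isometryEquiv Q g₀) x =
          ∑ k : {k // s k}, x k • ((2 : F) • (Pi.single (k : ι) 1 : ι → F)) := by
        rw [hone]
        funext j
        rw [Pi.sub_apply, Matrix.mulVec_diagonal, Finset.sum_apply]
        simp only [Pi.smul_apply, Pi.single_apply, smul_eq_mul, mul_ite, mul_one, mul_zero]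
        by_cases hj : s j
        · rw [Finset.sum_eq_single_of_mem (⟨j, hj⟩ : {k // s k}) (Finset.mem_univ _)
            (fun k _ hk => if_neg fun h => hk (Subtype.ext h.symm)), if_pos rfl,
            show d j = -1 from if_pos hj]
          ring
        · rw [Finset.sum_eq_zero (fun (k : {k // s k}) _ => if_neg fun (h : j = (k : ι)) => hj (h.symm ▸ k.2)),
            show d j = 1 from if_neg hj]
          ring
      rw [hx]
      exact Submodule.sum_mem _ fun k _ => Submodule.smul_mem _ _
        (Submodule.subset_span ⟨k, hsingle k⟩))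
  have hW : (Matrix.of fun i j : {k // s k} => polarBilin Q
      (oneSub Q (isometryEquiv Q g₀) (Pi.single (i : ι) 1)) (Pi.single (j : ι) 1)) =
      (2 : F) • Matrix.of fun i j : {k // s k} =>
        polarBilin Q (Pi.single (i : ι) 1) (Pi.single (j : ι) 1) := by
    ext i j
    simp [hsingle]
  rw [hW, Matrix.det_smul] at hS
  have key : g₀ ∈ Cfsg.Omega F (⇑Q) ↔ Even (Fintype.card {k // s k}) ∧
      sqClass ((2 : F) ^ Fintype.card {k // s k} * (Matrix.of fun i j : {k // s k} =>
        polarBilin Q (Pi.single (i : ι) 1) (Pi.single (j : ι) 1)).det) = 1 := by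
    rw [mem_Omega_iff Q hQ h2 hn, hD, hS, neg_one_pow_eq_one_iff_even (by decide)]
  rw [← key]
  exact ⟨fun ⟨g, hg, hg1⟩ => (Subtype.ext (Units.ext hg1) : g = g₀) ▸ hg, fun h => ⟨g₀, h, rfl⟩⟩

end Coord

end Cfsg.Agent.Lib.QuadFin
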