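import Cfsg.Agent.Lib.QuadFin.Normal
import Cfsg.Agent.Lib.Geometry.OrthNegOne
import Cfsg.Agent.Lib.Classical.POmegaCard

/-!
Over the field of two elements a non-degenerate quadratic form in even dimension is of plus or minus type, and the
two types are told apart by the number of zeros.
-/

set_option autoImplicit false
set_option maxHeartbeats 800000

namespace Cfsg.Agent.Lib.QuadFin

open QuadraticMap (polarBilin)
open Cfsg.Agent.Lib.Geometry (quad_add quad_smul quad_polar_self quad_polar_comm matQuad)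
open Cfsg.Agent.Lib.Classical (zeroCount zeroCount_congr hyperForm hyperForm_apply zeroCount_hyperForm binaryForm binaryForm_apply)

attribute [-simp] QuadraticMap.polarBilin_apply_apply

theorem zmodTwo_cases : ∀ x : ZMod 2, x = 0 ∨ x = 1 := by decide

theorem plus_or_minus_two {V : Type*} [AddCommGroup V] [Module (ZMod 2) V] [FiniteDimensional (ZMod 2) V]
    (Q : QuadraticForm (ZMod 2) V) (hnd : (polarBilin Q).Nondegenerate) {m : ℕ} (hm : 1 ≤ m)
    (hfr : Module.finrank (ZMod 2) V = 2 * m) :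
    (∃ e : V ≃ₗ[ZMod 2] (Fin m ⊕ Fin m → ZMod 2), ∀ v, Q v = Cfsg.quadFormPlus m (ZMod 2) (e v)) ∨
    (∃ e : V ≃ₗ[ZMod 2] ((Fin (m - 1) ⊕ Fin (m - 1)) ⊕ Fin 2 → ZMod 2),
      ∀ v, Q v = Cfsg.quadFormMinus (m - 1) (ZMod 2) 1 1 (e v)) := by
  classical
  set Q₀ := matQuad (Cfsg.Agent.Lib.Geometry.plusMatrix m (ZMod 2)) with hQ₀
  have hQ₀' : Cfsg.quadFormPlus m (ZMod 2) = ⇑Q₀ := Cfsg.Agent.Lib.Geometry.quadFormPlus_eq m
  rcases exists_normal_basis Q hnd hm hfr with ⟨b, h1, h2, h3⟩ | ⟨b, ζ, hζ, h1, h2, h3, h4, h5, h6, h7⟩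
  · refine Or.inl ⟨b.equivFun, fun v => ?_⟩
    rw [hQ₀']
    refine Cfsg.Agent.Lib.QuadFin.quad_ext_basis Q b (Q₀.comp b.equivFun.toLinearMap) ?_ ?_ v
    · intro k
      rw [QuadraticMap.comp_apply, LinearEquiv.coe_coe, Module.Basis.equivFun_apply, Module.Basis.repr_self, Finsupp.single_eq_pi_single, ← hQ₀']
      rcases k with i | i <;> simp [(h1 i).1, (h1 i).2, Cfsg.quadFormPlus]
    · intro k l
      have hcomp : ∀ x y, polarBilin (Q₀.comp b.equivFun.toLinearMap) x y = polarBilin Q₀ (b.equivFun x) (b.equivFun y) := fun x y => by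
        simp [QuadraticMap.polarBilin_apply_apply, QuadraticMap.polar, map_add]
      have e1 : ∀ i j, polarBilin Q (b (Sum.inl i)) (b (Sum.inr j)) = if i = j then 1 else 0 := h2
      have e4 : ∀ i j, polarBilin Q (b (Sum.inr i)) (b (Sum.inl j)) = if j = i then 1 else 0 := fun i j => by
        rw [quad_polar_comm]; exact e1 j i
      have e2 : ∀ i j, polarBilin Q (b (Sum.inl i)) (b (Sum.inl j)) = 0 := fun i j => (h3 i j).1
      have e3 : ∀ i j, polarBilin Q (b (Sum.inr i)) (b (Sum.inr j)) = 0 := fun i j => (h3 i j).2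
      have es : ∀ k : Fin m ⊕ Fin m, (fun j => if k = j then (1 : ZMod 2) else 0) = Pi.single k 1 := fun k => by
        funext j; simp [Pi.single_apply, eq_comm]
      rw [hcomp]
      simp only [hQ₀, Cfsg.Agent.Lib.Geometry.polarBilin_matQuad_single, Module.Basis.equivFun_apply, Module.Basis.repr_self,
        Finsupp.single_eq_pi_single]
      rcases k with i | i <;> rcases l with j | j <;>
        (try simp only [e1, e2, e3, e4]) <;>
        simp [Cfsg.Agent.Lib.Geometry.plusMatrix, Matrix.fromBlocks, Matrix.one_apply, eq_comm]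
  · have hζ1 : ζ = 1 := (zmodTwo_cases ζ).resolve_left fun h => hζ 0 (by rw [h]; ring)
    refine Or.inr ⟨b.equivFun, fun v => ?_⟩
    rw [congrFun (Cfsg.Agent.Lib.Geometry.quadFormMinus_eq (m - 1) (1 : ZMod 2) 1) (b.equivFun v)]
    refine Cfsg.Agent.Lib.QuadFin.quad_ext_basis Q b ((matQuad (Cfsg.Agent.Lib.Geometry.minusMatrix (m - 1) (1 : ZMod 2) 1)).comp b.equivFun.toLinearMap) ?_ ?_ v
    · intro k
      rw [QuadraticMap.comp_apply, LinearEquiv.coe_coe, Module.Basis.equivFun_apply, Module.Basis.repr_self, Finsupp.single_eq_pi_single,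
        ← congrFun (Cfsg.Agent.Lib.Geometry.quadFormMinus_eq (m - 1) (1 : ZMod 2) 1)]
      rcases k with (i | i) | k
      · simp [(h1 i).1, Cfsg.quadFormMinus]
      · simp [(h1 i).2, Cfsg.quadFormMinus]
      · fin_cases k
        · simp [h5, Cfsg.quadFormMinus]
        · simp [h7, hζ1, Cfsg.quadFormMinus]
    · intro k l
      have hcomp : ∀ x y, polarBilin ((matQuad (Cfsg.Agent.Lib.Geometry.minusMatrix (m - 1) (1 : ZMod 2) 1)).comp b.equivFun.toLinearMap) x y =
          polarBilin (matQuad (Cfsg.Agent.Lib.Geometry.minusMatrix (m - 1) (1 : ZMod 2) 1)) (b.equivFun x) (b.equivFun y) := fun x y => by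
        simp [QuadraticMap.polarBilin_apply_apply, QuadraticMap.polar, map_add]
      have s0 : polarBilin Q (b (Sum.inr 0)) (b (Sum.inr 0)) = 0 := by rw [quad_polar_self]; exact mul_eq_zero_of_left CharTwo.two_eq_zero _
      have s1 : polarBilin Q (b (Sum.inr 1)) (b (Sum.inr 1)) = 0 := by rw [quad_polar_self]; exact mul_eq_zero_of_left CharTwo.two_eq_zero _
      have h6' : polarBilin Q (b (Sum.inr 0)) (b (Sum.inr 1)) = 1 := h6
      have h6c : polarBilin Q (b (Sum.inr 1)) (b (Sum.inr 0)) = 1 := by rw [quad_polar_comm]; exact h6'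
      have hA : ∀ i (k : Fin 2), polarBilin Q (b (Sum.inl (Sum.inl i))) (b (Sum.inr k)) = 0 := fun i k => (h4 i k).1
      have hB : ∀ i (k : Fin 2), polarBilin Q (b (Sum.inl (Sum.inr i))) (b (Sum.inr k)) = 0 := fun i k => (h4 i k).2
      have hA' : ∀ i (k : Fin 2), polarBilin Q (b (Sum.inr k)) (b (Sum.inl (Sum.inl i))) = 0 := fun i k => by
        rw [quad_polar_comm]; exact hA i k
      have hB' : ∀ i (k : Fin 2), polarBilin Q (b (Sum.inr k)) (b (Sum.inl (Sum.inr i))) = 0 := fun i k => by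
        rw [quad_polar_comm]; exact hB i k
      have hC : ∀ i j, polarBilin Q (b (Sum.inl (Sum.inl i))) (b (Sum.inl (Sum.inr j))) = if i = j then 1 else 0 := h2
      have hC' : ∀ i j, polarBilin Q (b (Sum.inl (Sum.inr i))) (b (Sum.inl (Sum.inl j))) = if j = i then 1 else 0 := fun i j => by
        rw [quad_polar_comm]; exact hC j i
      have hD : ∀ i j, polarBilin Q (b (Sum.inl (Sum.inl i))) (b (Sum.inl (Sum.inl j))) = 0 := fun i j => (h3 i j).1
      have hE : ∀ i j, polarBilin Q (b (Sum.inl (Sum.inr i))) (b (Sum.inl (Sum.inr j))) = 0 := fun i j => (h3 i j).2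
      rw [hcomp]
      simp only [Module.Basis.equivFun_apply, Module.Basis.repr_self, Finsupp.single_eq_pi_single,
        Cfsg.Agent.Lib.Geometry.polarBilin_matQuad_single]
      rcases k with (i | i) | k <;> rcases l with (j | j) | l <;> (try fin_cases k) <;> (try fin_cases l) <;>
        (try simp only [hA, hA', hB, hB', hC, hC', hD, hE, h6', h6c, s0, s1]) <;>
        simp [Cfsg.Agent.Lib.Geometry.minusMatrix, Cfsg.Agent.Lib.Geometry.plusMatrix,
          Matrix.fromBlocks, Matrix.one_apply, eq_comm, CharTwo.add_self_eq_zero, hA, hA', hB, hB', hC, hC', hD, hE, h6', h6c, s0, s1]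

theorem zeroCount_plus_two {m : ℕ} (hm : 1 ≤ m) :
    Nat.card {w : Fin m ⊕ Fin m → ZMod 2 // Cfsg.quadFormPlus m (ZMod 2) w = 0} = 2 ^ (2 * m - 1) + 2 ^ (m - 1) := by
  classical
  let sp : (Fin m ⊕ Fin m → ZMod 2) ≃ₗ[ZMod 2] (Fin m → ZMod 2) × (Fin m → ZMod 2) × (Fin 0 → ZMod 2) :=
    (LinearEquiv.sumArrowLequivProdArrow (Fin m) (Fin m) (ZMod 2) (ZMod 2)).trans
      ((LinearEquiv.refl _ _).prodCongr (LinearEquiv.prodUnique (R := ZMod 2) (M := Fin m → ZMod 2) (M₂ := Fin 0 → ZMod 2)).symm)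
  rw [Cfsg.Agent.Lib.Geometry.quadFormPlus_eq]
  have h1 : zeroCount (matQuad (Cfsg.Agent.Lib.Geometry.plusMatrix m (ZMod 2))) =
      zeroCount (hyperForm m (0 : QuadraticForm (ZMod 2) (Fin 0 → ZMod 2))) :=
    zeroCount_congr _ _ sp (fun v => by
      rw [← Cfsg.Agent.Lib.Geometry.quadFormPlus_eq, hyperForm_apply]
      simp [sp, Cfsg.quadFormPlus])
  have h2 := zeroCount_hyperForm (q := 2) (d := 0) (F := ZMod 2) (by simp) (by simp)
    (0 : QuadraticForm (ZMod 2) (Fin 0 → ZMod 2)) m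
  have h3 : zeroCount (0 : QuadraticForm (ZMod 2) (Fin 0 → ZMod 2)) = 1 := by simp [zeroCount]
  rw [h3, ← h1, zero_add, zero_add] at h2
  obtain ⟨k, rfl⟩ : ∃ k, m = k + 1 := ⟨m - 1, by omega⟩
  show zeroCount _ = _
  rw [show 2 * (k + 1) - 1 = 2 * k + 1 by omega, show k + 1 - 1 = k by omega]
  rw [show (2 : ℕ) ^ (2 * (k + 1)) = 2 * 2 ^ (2 * k + 1) by ring, show (2 : ℕ) ^ (k + 1 + 1) = 4 * 2 ^ k by ring,
    show (2 : ℕ) ^ (k + 1) = 2 * 2 ^ k by ring] at h2
  omega

theorem zeroCount_minus_two (n : ℕ) :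
    Nat.card {w : (Fin n ⊕ Fin n) ⊕ Fin 2 → ZMod 2 // Cfsg.quadFormMinus n (ZMod 2) 1 1 w = 0} + 2 ^ n =
      2 ^ (2 * n + 1) := by
  classical
  rw [Cfsg.Agent.Lib.Geometry.quadFormMinus_eq]
  have h1 : zeroCount (matQuad (Cfsg.Agent.Lib.Geometry.minusMatrix n (1 : ZMod 2) 1)) =
      zeroCount (hyperForm n (binaryForm (1 : ZMod 2) 1)) :=
    zeroCount_congr _ _ (Cfsg.Agent.Lib.Classical.minusEquiv n (ZMod 2)) (fun v => by
      rw [← Cfsg.Agent.Lib.Geometry.quadFormMinus_eq]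
      exact (Cfsg.Agent.Lib.Classical.quadFormMinus_eq_hyper n 1 1 v).symm)
  have h2 := zeroCount_hyperForm (q := 2) (d := 2) (F := ZMod 2) (by simp) (by simp)
    (binaryForm (1 : ZMod 2) 1) n
  have h3 : zeroCount (binaryForm (1 : ZMod 2) 1) = 1 := by
    rw [zeroCount, Nat.card_eq_one_iff_unique]
    refine ⟨⟨fun x y => Subtype.ext ?_⟩, ⟨⟨0, by simp⟩⟩⟩
    have key : ∀ p : ZMod 2 × ZMod 2, p.1 ^ 2 + 1 * p.1 * p.2 + 1 * p.2 ^ 2 = 0 → p = 0 := by decide
    rw [key x.1 (by rw [← binaryForm_apply]; exact x.2), key y.1 (by rw [← binaryForm_apply]; exact y.2)]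
  rw [h3, ← h1] at h2
  show zeroCount _ + _ = _
  rw [show (2 : ℕ) ^ (2 + n) = 4 * 2 ^ n by ring, show (2 : ℕ) ^ (n + 1) = 2 * 2 ^ n by ring,
    show (2 : ℕ) ^ (2 + 2 * n) = 2 * 2 ^ (2 * n + 1) by ring] at h2
  omega

end Cfsg.Agent.Lib.QuadFin
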