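import Mathlib

/-!
Cyclic nilpotent matrices, their commutants, and involutions on them sending the matrix to its negative.
-/

set_option autoImplicit false

namespace Cfsg.Agent.Lib.QuadFin

open Matrix

variable {F : Type*} [Field F] {ι : Type*} [Fintype ι] [DecidableEq ι]

/-- A nilpotent matrix of corank one has a cyclic vector. -/
theorem exists_cyclic_vector {n : ℕ} (hn : Fintype.card ι = n) (hn0 : 0 < n) {N : Matrix ι ι F}
    (hnil : N ^ n = 0) (hr : N.rank = n - 1) :
    ∃ v : ι → F, LinearIndependent F (fun i : Fin n => (N ^ (i : ℕ)) *ᵥ v) := by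
  obtain ⟨f, hf⟩ : ∃ f, f = N.mulVecLin := ⟨_, rfl⟩
  have hker : Module.finrank F (LinearMap.ker f) ≤ 1 := by
    have h := LinearMap.finrank_range_add_finrank_ker f
    rw [Module.finrank_fintype_fun_eq_card, hn, show Module.finrank F (LinearMap.range f) = N.rank by rw [hf]; rfl, hr] at h
    omega
  have hrange : ∀ k ≤ n, n - k ≤ Module.finrank F (LinearMap.range (N ^ k).mulVecLin) := by
    intro k hk
    induction k with
    | zero =>
      rw [pow_zero, Matrix.mulVecLin_one, LinearMap.range_id, finrank_top, Module.finrank_fintype_fun_eq_card, hn]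
      rfl
    | succ k ih =>
      have hW := ih (by omega)
      obtain ⟨W, hWd⟩ : ∃ W, W = LinearMap.range (N ^ k).mulVecLin := ⟨_, rfl⟩
      rw [← hWd] at hW
      have h := LinearMap.finrank_range_add_finrank_ker (f.domRestrict W)
      have h1 : LinearMap.range (f.domRestrict W) = LinearMap.range (N ^ (k + 1)).mulVecLin := by
        rw [LinearMap.range_domRestrict, hWd, ← LinearMap.range_comp, hf, ← Matrix.mulVecLin_mul, ← pow_succ']
      have h2 : Module.finrank F (LinearMap.ker (f.domRestrict W)) ≤ 1 := by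
        refine le_trans ?_ hker
        refine LinearMap.finrank_le_finrank_of_injective (f := W.subtype.restrict (p := LinearMap.ker (f.domRestrict W))
          (q := LinearMap.ker f) fun x hx => hx) ?_
        intro x y hxy
        have hv := congrArg Subtype.val hxy
        exact Subtype.ext (Subtype.ext hv)
      rw [h1] at h
      omega
  have hne : N ^ (n - 1) ≠ 0 := by
    intro h0
    have := hrange (n - 1) (by omega)
    rw [h0, Matrix.mulVecLin_zero, LinearMap.range_zero, finrank_bot] at this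
    omega
  obtain ⟨v, hv⟩ : ∃ v, (N ^ (n - 1)) *ᵥ v ≠ 0 := by
    by_contra hall
    push Not at hall
    exact hne (Matrix.ext_of_mulVec_single fun i => by rw [hall, Matrix.zero_mulVec])
  refine ⟨v, ?_⟩
  rw [Fintype.linearIndependent_iff]
  intro c hc
  by_contra hno
  push Not at hno
  classical
  obtain ⟨j, hj, hmin⟩ := Finset.exists_min_image (Finset.univ.filter fun i => c i ≠ 0) id
    (by obtain ⟨i, hi⟩ := hno; exact ⟨i, by simp [hi]⟩)
  simp only [Finset.mem_filter, Finset.mem_univ, true_and, id_eq] at hj hmin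
  have h := congrArg ((N ^ (n - 1 - (j : ℕ))) *ᵥ ·) hc
  simp only [Matrix.mulVec_sum, Matrix.mulVec_zero, Matrix.mulVec_smul, Matrix.mulVec_mulVec, ← pow_add] at h
  rw [Finset.sum_eq_single j] at h
  · rw [show n - 1 - (j : ℕ) + j = n - 1 by omega] at h
    exact hv ((smul_eq_zero.mp h).resolve_left hj)
  · intro i _ hij
    by_cases hi : c i = 0
    · rw [hi, zero_smul]
    · have : (j : ℕ) < i := lt_of_le_of_ne (hmin i hi) (fun h => hij (Fin.ext h.symm))
      rw [pow_eq_zero_of_le (show n ≤ n - 1 - (j : ℕ) + i by omega) hnil, Matrix.zero_mulVec, smul_zero]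
  · simp

/-- Data: a nilpotent matrix with a cyclic vector. -/
structure Cyc (F : Type*) [Field F] (ι : Type*) [Fintype ι] [DecidableEq ι] (n : ℕ) where
  /-- The matrix. -/
  s : Matrix ι ι F
  /-- The vector. -/
  v : ι → F
  card_eq : Fintype.card ι = n
  pos : 0 < n
  nil : s ^ n = 0
  li : LinearIndependent F (fun i : Fin n => (s ^ (i : ℕ)) *ᵥ v)

namespace Cyc

variable {n : ℕ} (D : Cyc F ι n)

theorem exists_of_rank {N : Matrix ι ι F} (hn : Fintype.card ι = n) (hn0 : 0 < n)
    (hnil : N ^ n = 0) (hr : N.rank = n - 1) : ∃ D : Cyc F ι n, D.s = N := by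
  obtain ⟨v, hv⟩ := exists_cyclic_vector hn hn0 hnil hr
  exact ⟨⟨N, v, hn, hn0, hnil, hv⟩, rfl⟩

/-- The polynomial with given coefficients, evaluated at the matrix. -/
def ev (c : Fin n → F) : Matrix ι ι F := ∑ i : Fin n, c i • D.s ^ (i : ℕ)

theorem nonempty (D : Cyc F ι n) : Nonempty (Fin n) := ⟨⟨0, D.pos⟩⟩

/-- The basis of iterates of the cyclic vector. -/
noncomputable def basis : Module.Basis (Fin n) F (ι → F) :=
  haveI := D.nonempty
  basisOfLinearIndependentOfCardEqFinrank D.li (by rw [Fintype.card_fin, Module.finrank_fintype_fun_eq_card, D.card_eq])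

theorem basis_apply (i : Fin n) : D.basis i = (D.s ^ (i : ℕ)) *ᵥ D.v := by
  haveI := D.nonempty
  rw [basis, coe_basisOfLinearIndependentOfCardEqFinrank]

theorem eq_of_mulVec_eq {a b : Matrix ι ι F} (ha : Commute a D.s) (hb : Commute b D.s)
    (h : a *ᵥ D.v = b *ᵥ D.v) : a = b := by
  refine Matrix.toLin'.injective (D.basis.ext fun i => ?_)
  rw [Matrix.toLin'_apply, Matrix.toLin'_apply, D.basis_apply, Matrix.mulVec_mulVec, Matrix.mulVec_mulVec,
    (ha.pow_right _).eq, (hb.pow_right _).eq, ← Matrix.mulVec_mulVec, ← Matrix.mulVec_mulVec, h]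

theorem commute_ev (c : Fin n → F) : Commute (D.ev c) D.s :=
  Commute.sum_left _ _ _ fun i _ => ((Commute.refl D.s).pow_left _).smul_left _

theorem ev_mulVec (c : Fin n → F) : D.ev c *ᵥ D.v = ∑ i, c i • D.basis i := by
  simp [ev, Matrix.sum_mulVec, Matrix.smul_mulVec, D.basis_apply]

theorem ev_injective : Function.Injective D.ev := by
  intro c c' h
  have := congrArg (fun a => D.basis.equivFun (a *ᵥ D.v)) h
  simp only [ev_mulVec] at this
  rwa [← D.basis.equivFun_symm_apply, ← D.basis.equivFun_symm_apply, LinearEquiv.apply_symm_apply,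
    LinearEquiv.apply_symm_apply] at this

theorem exists_ev {a : Matrix ι ι F} (ha : Commute a D.s) : ∃ c, D.ev c = a :=
  ⟨D.basis.equivFun (a *ᵥ D.v), D.eq_of_mulVec_eq (D.commute_ev _) ha (by rw [ev_mulVec, D.basis.sum_equivFun])⟩

theorem commute_of_commute {a b : Matrix ι ι F} (ha : Commute a D.s) (hb : Commute b D.s) : Commute a b := by
  obtain ⟨c, rfl⟩ := D.exists_ev hb
  exact Commute.sum_right _ _ _ fun i _ => (ha.pow_right _).smul_right _

/-- The scalar by which a commuting matrix acts on the kernel. -/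
noncomputable def lead (a : Matrix ι ι F) : F := D.basis.equivFun (a *ᵥ D.v) ⟨0, D.pos⟩

theorem lead_ev (c : Fin n → F) : D.lead (D.ev c) = c ⟨0, D.pos⟩ := by
  rw [lead, ev_mulVec, ← D.basis.equivFun_symm_apply, LinearEquiv.apply_symm_apply]

theorem lead_one : D.lead 1 = 1 := by
  rw [lead, Matrix.one_mulVec, show D.v = D.basis ⟨0, D.pos⟩ by rw [basis_apply, pow_zero, Matrix.one_mulVec],
    D.basis.equivFun_self, if_pos rfl]

theorem lead_add (a b : Matrix ι ι F) : D.lead (a + b) = D.lead a + D.lead b := by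
  simp [lead, Matrix.add_mulVec]

theorem lead_sub (a b : Matrix ι ι F) : D.lead (a - b) = D.lead a - D.lead b := by
  simp [lead, Matrix.sub_mulVec]

theorem lead_smul (x : F) (a : Matrix ι ι F) : D.lead (x • a) = x * D.lead a := by
  simp [lead, Matrix.smul_mulVec]

theorem lead_neg (a : Matrix ι ι F) : D.lead (-a) = -D.lead a := by
  simp [lead, Matrix.neg_mulVec]

/-- The last iterate. -/
def top : ι → F := (D.s ^ (n - 1)) *ᵥ D.v

theorem top_ne_zero : D.top ≠ 0 := by
  have := D.li.ne_zero ⟨n - 1, by have := D.pos; omega⟩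
  exact this

theorem mulVec_top {a : Matrix ι ι F} (ha : Commute a D.s) : a *ᵥ D.top = D.lead a • D.top := by
  obtain ⟨c, rfl⟩ := D.exists_ev ha
  rw [lead_ev, top, ev, Matrix.sum_mulVec, Finset.sum_eq_single ⟨0, D.pos⟩]
  · rw [Matrix.smul_mulVec, pow_zero, Matrix.one_mulVec]
  · intro i _ hi
    have : (i : ℕ) ≠ 0 := fun h => hi (Fin.ext h)
    rw [Matrix.smul_mulVec, Matrix.mulVec_mulVec, ← pow_add, pow_eq_zero_of_le (by omega) D.nil,
      Matrix.zero_mulVec, smul_zero]
  · simp

theorem lead_mul {a b : Matrix ι ι F} (ha : Commute a D.s) (hb : Commute b D.s) :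
    D.lead (a * b) = D.lead a * D.lead b := by
  have h := D.mulVec_top (ha.mul_left hb)
  rw [← Matrix.mulVec_mulVec, D.mulVec_top hb, Matrix.mulVec_smul, D.mulVec_top ha, smul_smul] at h
  rw [← smul_left_injective F D.top_ne_zero h, mul_comm]

theorem isNilpotent_sub_lead {a : Matrix ι ι F} (ha : Commute a D.s) :
    IsNilpotent (a - D.lead a • (1 : Matrix ι ι F)) := by
  obtain ⟨c, rfl⟩ := D.exists_ev ha
  obtain ⟨b, hb⟩ : ∃ b, b = ∑ i : Fin n, (if (i : ℕ) = 0 then 0 else c i) • D.s ^ ((i : ℕ) - 1) := ⟨_, rfl⟩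
  have hcomm : Commute D.s b := hb ▸ Commute.sum_right _ _ _ fun i _ => ((Commute.refl D.s).pow_right _).smul_right _
  have heq : D.ev c - D.lead (D.ev c) • (1 : Matrix ι ι F) = D.s * b := by
    rw [lead_ev, hb, Finset.mul_sum, sub_eq_iff_eq_add, ev, ← Finset.sum_erase_add _ _ (Finset.mem_univ ⟨0, D.pos⟩)]
    conv_rhs => rw [← Finset.sum_erase_add _ _ (Finset.mem_univ (⟨0, D.pos⟩ : Fin n))]
    simp only [if_true, zero_smul, mul_zero, add_zero, pow_zero]
    refine congrArg (· + _) (Finset.sum_congr rfl fun i hi => ?_)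
    have : (i : ℕ) ≠ 0 := fun h => (Finset.mem_erase.mp hi).1 (Fin.ext h)
    rw [if_neg this, Matrix.mul_smul, ← pow_succ', show (i : ℕ) - 1 + 1 = i by omega]
  exact ⟨n, by rw [heq, hcomm.mul_pow, D.nil, zero_mul]⟩

theorem isUnit_iff_lead {a : Matrix ι ι F} (ha : Commute a D.s) : IsUnit a ↔ D.lead a ≠ 0 := by
  constructor
  · rintro ⟨u, rfl⟩ h0
    have h := D.mulVec_top ha
    rw [h0, zero_smul] at h
    have := congrArg ((↑u⁻¹ : Matrix ι ι F) *ᵥ ·) h
    simp at this
    exact D.top_ne_zero this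
  · intro h0
    have h := (D.isNilpotent_sub_lead ha).isUnit_add_left_of_commute (u := D.lead a • (1 : Matrix ι ι F))
      ((isUnit_one).smul (Units.mk0 _ h0)) ((Commute.one_right _).smul_right _)
    rwa [add_sub_cancel] at h

theorem lead_s (hn : 2 ≤ n) : D.lead D.s = 0 := by
  rw [lead, show D.s *ᵥ D.v = D.basis ⟨1, by omega⟩ by rw [basis_apply, pow_one], D.basis.equivFun_self]
  simp

variable {τ : Matrix ι ι F →ₗ[F] Matrix ι ι F} (hτ1 : τ 1 = 1) (hτm : ∀ a b, τ (a * b) = τ b * τ a)
  (hτs : τ D.s = -D.s)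

include hτ1 hτm hτs

theorem tau_pow (k : ℕ) : τ (D.s ^ k) = (-1 : F) ^ k • D.s ^ k := by
  induction k with
  | zero => simp [hτ1]
  | succ k ih =>
    rw [pow_succ, hτm, ih, hτs, pow_succ, ← neg_one_smul F D.s, smul_mul_smul_comm,
      ((Commute.refl D.s).pow_right k).eq, mul_comm]

theorem tau_ev (c : Fin n → F) : τ (D.ev c) = D.ev (fun i => (-1) ^ (i : ℕ) * c i) := by
  simp only [ev, map_sum, map_smul, tau_pow D hτ1 hτm hτs, smul_smul]
  exact Finset.sum_congr rfl fun i _ => by rw [mul_comm]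

theorem commute_tau {a : Matrix ι ι F} (ha : Commute a D.s) : Commute (τ a) D.s := by
  obtain ⟨c, rfl⟩ := D.exists_ev ha
  rw [tau_ev D hτ1 hτm hτs]
  exact D.commute_ev _

theorem lead_tau {a : Matrix ι ι F} (ha : Commute a D.s) : D.lead (τ a) = D.lead a := by
  obtain ⟨c, rfl⟩ := D.exists_ev ha
  rw [tau_ev D hτ1 hτm hτs, lead_ev, lead_ev]
  simp

theorem tau_tau {a : Matrix ι ι F} (ha : Commute a D.s) : τ (τ a) = a := by
  obtain ⟨c, rfl⟩ := D.exists_ev ha
  rw [tau_ev D hτ1 hτm hτs, tau_ev D hτ1 hτm hτs]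
  congr 1
  funext i
  rw [← mul_assoc, ← mul_pow]
  simp

omit hτ1 hτm hτs in
theorem commute_inverse {a : Matrix ι ι F} (ha : Commute a D.s) (hu : IsUnit a) :
    Commute (Ring.inverse a) D.s := by
  obtain ⟨u, rfl⟩ := hu
  rw [Ring.inverse_unit]
  exact ha.units_inv_left

variable [Finite F] (h2 : (2 : F) ≠ 0)

include h2

omit hτ1 hτm hτs [Finite F] in
theorem two_smul_eq_zero {a : Matrix ι ι F} (h : a + a = 0) : a = 0 := by
  rw [← two_smul F] at h
  exact (smul_eq_zero.mp h).resolve_left h2

theorem exists_sqrt {f : Matrix ι ι F} (hf : Commute f D.s) (he : τ f = f) (hu : D.lead f ≠ 0) :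
    ∃ k, Commute k D.s ∧ τ k = k ∧ IsUnit k ∧ f = D.lead f • (k * k) := by
  let U := {a : Matrix ι ι F // Commute a D.s ∧ τ a = a ∧ D.lead a = 1}
  let sq : U → U := fun a => ⟨a.1 * a.1, a.2.1.mul_left a.2.1, by rw [hτm, a.2.2.1],
    by rw [D.lead_mul a.2.1 a.2.1, a.2.2.2, mul_one]⟩
  have hinj : Function.Injective sq := by
    rintro ⟨a, ha, hae, ha1⟩ ⟨b, hb, hbe, hb1⟩ h
    have h' : a * a = b * b := congrArg Subtype.val h
    have hz : (a + b) * (a - b) = 0 := by
      rw [mul_sub, add_mul, add_mul, ← h', (D.commute_of_commute hb ha).eq]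
      abel
    have hab : IsUnit (a + b) := (D.isUnit_iff_lead (ha.add_left hb)).mpr (by
      rw [lead_add, ha1, hb1, one_add_one_eq_two]; exact h2)
    exact Subtype.ext (sub_eq_zero.mp (hab.mul_right_eq_zero.mp hz))
  obtain ⟨⟨k, hk, hke, hk1⟩, hkk⟩ := (Finite.injective_iff_surjective.mp hinj)
    ⟨(D.lead f)⁻¹ • f, hf.smul_left _, by rw [map_smul, he], by rw [lead_smul, inv_mul_cancel₀ hu]⟩
  refine ⟨k, hk, hke, (D.isUnit_iff_lead hk).mpr (by rw [hk1]; exact one_ne_zero), ?_⟩
  have : k * k = (D.lead f)⁻¹ • f := congrArg Subtype.val hkk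
  rw [this, smul_smul, mul_inv_cancel₀ hu, one_smul]

/-- The norm-one elements of the commutant number `2 q ^ m`. -/
theorem card_norm_one {m : ℕ} (hnm : n = 2 * m) :
    Nat.card {a : Matrix ι ι F // Commute a D.s ∧ τ a * a = 1} = 2 * Nat.card F ^ m := by
  classical
  let O := {h : Matrix ι ι F // Commute h D.s ∧ τ h = -h}
  have hlead0 : ∀ h : O, D.lead h.1 = 0 := fun h => by
    have h1 := lead_tau D hτ1 hτm hτs h.2.1
    rw [h.2.2, lead_neg] at h1
    have : (2 : F) * D.lead h.1 = 0 := by linear_combination -h1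
    exact (mul_eq_zero.mp this).resolve_left h2
  -- counting the odd elements
  have hO : Nat.card O = Nat.card F ^ m := by
    rw [← Nat.card_eq_of_bijective (fun d : Fin m → F => (⟨D.ev (fun i => if Odd (i : ℕ) then
        d ⟨(i : ℕ) / 2, by have := i.2; omega⟩ else 0), D.commute_ev _, ?_⟩ : O)) ⟨?_, ?_⟩,
      Nat.card_pi, Finset.prod_const, Finset.card_univ, Fintype.card_fin]
    · intro d d' h
      have h' := D.ev_injective (congrArg Subtype.val h)
      funext j
      have := congrFun h' ⟨2 * j + 1, by omega⟩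
      simp only at this
      rw [if_pos (odd_two_mul_add_one _), if_pos (odd_two_mul_add_one _)] at this
      simpa [Nat.add_div, Nat.mul_div_cancel_left] using this
    · rintro ⟨h, hh, he⟩
      obtain ⟨c, rfl⟩ := D.exists_ev hh
      have hc : ∀ i : Fin n, ¬ Odd (i : ℕ) → c i = 0 := by
        intro i hi
        rw [tau_ev D hτ1 hτm hτs] at he
        have h1 : D.ev (fun i => (-1) ^ (i : ℕ) * c i) = D.ev (-c) := by
          rw [he, ev, ev, ← Finset.sum_neg_distrib]; simp
        have h2' := congrFun (D.ev_injective h1) i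
        rw [Pi.neg_apply, (Nat.not_odd_iff_even.mp hi).neg_one_pow, one_mul] at h2'
        have : (2 : F) * c i = 0 := by linear_combination h2'
        exact (mul_eq_zero.mp this).resolve_left h2
      refine ⟨fun j => c ⟨2 * j + 1, by omega⟩, Subtype.ext (congrArg D.ev (funext fun i => ?_))⟩
      split_ifs with hi
      · refine congrArg c ?_
        apply Fin.ext
        exact Nat.two_mul_div_two_add_one_of_odd hi
      · exact (hc i hi).symm
    · rw [tau_ev D hτ1 hτm hτs]
      rw [ev, ev, ← Finset.sum_neg_distrib]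
      refine Finset.sum_congr rfl fun i _ => ?_
      split_ifs with hi
      · rw [hi.neg_one_pow, ← neg_smul, neg_one_mul]
      · simp
  have hl1 : ∀ h : O, D.lead (1 + h.1) = 1 := fun h => by rw [lead_add, lead_one, hlead0, add_zero]
  have hc1 : ∀ h : O, Commute (1 + h.1) D.s := fun h => (Commute.one_left _).add_left h.2.1
  have hu1 : ∀ h : O, IsUnit (1 + h.1) := fun h =>
    (D.isUnit_iff_lead (hc1 h)).mpr (by rw [hl1]; exact one_ne_zero)
  let w : O → Matrix ι ι F := fun h => (1 - h.1) * Ring.inverse (1 + h.1)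
  have hwc : ∀ h, Commute (w h) D.s := fun h =>
    ((Commute.one_left _).sub_left h.2.1).mul_left (commute_inverse D (hc1 h) (hu1 h))
  have hw : ∀ h, w h * (1 + h.1) = 1 - h.1 := fun h => by
    rw [mul_assoc, Ring.inverse_mul_cancel _ (hu1 h), mul_one]
  have hwl : ∀ h, D.lead (w h) = 1 := fun h => by
    have := congrArg D.lead (hw h)
    rw [D.lead_mul (hwc h) (hc1 h), hl1, mul_one, lead_sub, lead_one, hlead0, sub_zero] at this
    exact this
  have hwn : ∀ h, τ (w h) * w h = 1 := fun h => by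
    have h1 : (1 - h.1) * τ (w h) = 1 + h.1 := by
      have := congrArg τ (hw h)
      rw [hτm, map_add, map_sub, hτ1, h.2.2, ← sub_eq_add_neg, sub_neg_eq_add] at this
      exact this
    have hu : IsUnit (1 + h.1) := hu1 h
    refine hu.mul_right_cancel ?_
    rw [mul_assoc, hw h, (D.commute_of_commute (commute_tau D hτ1 hτm hτs (hwc h))
      ((Commute.one_left _).sub_left h.2.1)).eq, h1, one_mul]
  let g : Bool × O → {a : Matrix ι ι F // Commute a D.s ∧ τ a * a = 1} := fun p =>
    if p.1 then ⟨w p.2, hwc _, hwn _⟩ else ⟨-w p.2, (hwc _).neg_left, by rw [map_neg, neg_mul_neg, hwn]⟩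
  have hg : Function.Bijective g := by
    constructor
    · rintro ⟨e, h⟩ ⟨e', h'⟩ hgg
      have hval := congrArg Subtype.val hgg
      have he : e = e' := by
        have hl := congrArg D.lead hval
        cases e <;> cases e' <;> simp [g, lead_neg, hwl] at hl ⊢
        · exact h2 (by linear_combination -hl)
        · exact h2 (by linear_combination hl)
      subst he
      have hww : w h = w h' := by cases e <;> simpa [g] using hval
      refine Prod.ext rfl (Subtype.ext ?_)
      have hq : (1 - h.1) * (1 + h'.1) = (1 - h'.1) * (1 + h.1) := by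
        have e1 := hw h
        rw [hww] at e1
        calc (1 - h.1) * (1 + h'.1) = w h' * (1 + h.1) * (1 + h'.1) := by rw [e1]
          _ = w h' * (1 + h'.1) * (1 + h.1) := by
            rw [mul_assoc, (D.commute_of_commute (hc1 h) (hc1 h')).eq, ← mul_assoc]
          _ = _ := by rw [hw h']
      have hcm := (D.commute_of_commute h.2.1 h'.2.1).eq
      refine (sub_eq_zero.mp (two_smul_eq_zero h2 ?_)).symm
      calc (h'.1 - h.1) + (h'.1 - h.1) = (1 - h.1) * (1 + h'.1) - (1 - h'.1) * (1 + h.1) := by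
            simp only [sub_mul, mul_add, mul_one, one_mul, hcm]; abel
        _ = 0 := by rw [hq, sub_self]
    · rintro ⟨a, ha, han⟩
      have hl2 : D.lead a * D.lead a = 1 := by
        have := congrArg D.lead han
        rwa [D.lead_mul (commute_tau D hτ1 hτm hτs ha) ha, lead_tau D hτ1 hτm hτs ha, lead_one] at this
      obtain ⟨b, e, hbe, hb, hbn, hb1⟩ : ∃ (b : Matrix ι ι F) (e : Bool), a = (if e then b else -b) ∧
          Commute b D.s ∧ τ b * b = 1 ∧ D.lead b = 1 := by
        rcases mul_self_eq_one_iff.mp hl2 with h | h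
        · exact ⟨a, true, rfl, ha, han, h⟩
        · exact ⟨-a, false, (neg_neg a).symm, ha.neg_left, by rw [map_neg, neg_mul_neg, han], by rw [lead_neg, h, neg_neg]⟩
      have hcb : Commute (1 + b) D.s := (Commute.one_left _).add_left hb
      have hub : IsUnit (1 + b) := (D.isUnit_iff_lead hcb).mpr (by rw [lead_add, lead_one, hb1, one_add_one_eq_two]; exact h2)
      obtain ⟨h, hh⟩ : ∃ h, h = (1 - b) * Ring.inverse (1 + b) := ⟨_, rfl⟩
      have hhc : Commute h D.s := hh ▸ ((Commute.one_left _).sub_left hb).mul_left (commute_inverse D hcb hub)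
      have hmul : h * (1 + b) = 1 - b := by rw [hh, mul_assoc, Ring.inverse_mul_cancel _ hub, mul_one]
      have hodd : τ h = -h := by
        have h1 := congrArg τ hmul
        rw [hτm, map_add, map_sub, hτ1] at h1
        have h2' := congrArg (b * ·) h1
        have hbn' : b * τ b = 1 := by
          rw [(D.commute_of_commute hb (commute_tau D hτ1 hτm hτs hb)).eq, hbn]
        simp only [← mul_assoc, mul_add, mul_sub, mul_one, hbn'] at h2'
        refine eq_neg_of_add_eq_zero_left (hub.mul_right_eq_zero.mp ?_)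
        rw [mul_add, (D.commute_of_commute hcb hhc).eq, hmul, add_comm (1 : Matrix ι ι F) b, h2']
        abel
      refine ⟨(e, ⟨h, hhc, hodd⟩), Subtype.ext ?_⟩
      have hwb : w ⟨h, hhc, hodd⟩ = b := by
        refine (hu1 ⟨h, hhc, hodd⟩).mul_right_cancel ?_
        rw [hw]
        have e1 : h + h * b = 1 - b := by rw [← hmul, mul_add, mul_one]
        rw [mul_add, mul_one, (D.commute_of_commute hb hhc).eq]
        calc (1 : Matrix ι ι F) - h = (1 - b) + b - h := by abel
          _ = b + h * b := by rw [← e1]; abel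
      cases e <;> simp [g, hbe, hwb]
  rw [← Nat.card_eq_of_bijective g hg, Nat.card_prod, hO, Nat.card_eq_fintype_card (α := Bool), Fintype.card_bool]

end Cyc

end Cfsg.Agent.Lib.QuadFin
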