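import Cfsg.Prelude.Def_Solvable
import Cfsg.Agent.Lib.Cores.PCore
import Cfsg.Agent.Lib.Characters.Burnside
import Cfsg.Agent.Lib.SylowCounting.PermNormalizer
import Mathlib.GroupTheory.Transfer
import Mathlib.GroupTheory.SpecificGroups.Alternating

/-!
Groups without a solvable normal subgroup, acting on at most eight points.
-/

set_option autoImplicit false

namespace Cfsg.Agent.Lib.QuadFin.EightPoint

open Subgroup Equiv

variable {G : Type*} [Group G] [Finite G]

/-- There is no solvable normal subgroup other than the trivial one. -/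
def Radfree (G : Type*) [Group G] : Prop :=
  ∀ N : Subgroup G, N.Normal → Group.IsSolvable ↥N → N = ⊥

theorem radfree_of_cores (hO : Cfsg.pPrimeCore 2 G = ⊥) (hO2 : Cfsg.pCore 2 G = ⊥) : Radfree G := by
  intro N
  induction hn : Nat.card N using Nat.strong_induction_on generalizing N with
  | _ n ih =>
    subst hn
    intro hN hs
    by_contra hne
    haveI : Nontrivial N := (Subgroup.nontrivial_iff_ne_bot N).2 hne
    have hlt : (⁅N, N⁆ : Subgroup G) < N := by
      haveI := hs
      have h1 := Group.IsSolvable.commutator_lt_top_of_nontrivial N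
      refine lt_of_le_of_ne (Subgroup.commutator_le_left _ _) fun h => h1.ne ?_
      apply Subgroup.map_injective N.subtype_injective
      rw [commutator_def, Subgroup.map_commutator, ← MonoidHom.range_eq_map, Subgroup.range_subtype, h]
    haveI := hN
    have hcl : Nat.card (⁅N, N⁆ : Subgroup G) < Nat.card N := by
      rcases Nat.lt_or_ge (Nat.card (⁅N, N⁆ : Subgroup G)) (Nat.card N) with h | h
      · exact h
      · exact absurd (Subgroup.eq_of_le_of_card_ge hlt.le h) hlt.ne
    have hbot := ih _ hcl _ rfl inferInstance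
      (solvable_of_solvable_injective (Subgroup.inclusion_injective hlt.le))
    have hcomm : ∀ a ∈ N, ∀ b ∈ N, a * b = b * a := by
      intro a ha b hb
      have := Subgroup.commutator_mem_commutator ha hb
      rw [hbot, Subgroup.mem_bot, commutatorElement_eq_one_iff_mul_comm] at this
      exact this
    obtain ⟨p, hp, hdvd⟩ := Nat.exists_prime_and_dvd (Finite.one_lt_card (α := N)).ne'
    haveI : Fact p.Prime := ⟨hp⟩
    obtain ⟨x, hx⟩ := exists_prime_orderOf_dvd_card' (G := N) p hdvd
    let A : Subgroup G :=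
      { carrier := {a | a ∈ N ∧ a ^ p = 1}
        one_mem' := ⟨one_mem N, one_pow p⟩
        mul_mem' := fun {a b} ha hb =>
          ⟨mul_mem ha.1 hb.1, by rw [Commute.mul_pow (show Commute a b from hcomm a ha.1 b hb.1), ha.2, hb.2, mul_one]⟩
        inv_mem' := fun {a} ha => ⟨inv_mem ha.1, by rw [inv_pow, ha.2, inv_one]⟩ }
    have hAn : A.Normal := ⟨fun a ha g => ⟨hN.conj_mem a ha.1 g, by rw [conj_pow, ha.2]; simp⟩⟩
    have hAp : IsPGroup p A := fun a => ⟨1, Subtype.ext (by simpa using a.2.2)⟩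
    have hxA : (x : G) ∈ A := ⟨x.2, by rw [← SubmonoidClass.coe_pow, ← hx, pow_orderOf_eq_one]; rfl⟩
    have hAb : A = ⊥ := by
      rcases eq_or_ne p 2 with rfl | h2
      · exact le_bot_iff.mp (hO2 ▸ Cfsg.Agent.Lib.Cores.le_pCore hAn hAp)
      · refine le_bot_iff.mp (hO ▸ Cfsg.Agent.Lib.Cores.le_pPrimeCore hAn ?_)
        obtain ⟨k, hk⟩ := hAp.exists_card_eq
        rw [hk]
        exact Nat.Coprime.pow_left k ((Nat.coprime_primes hp Nat.prime_two).mpr h2)
    rw [hAb, Subgroup.mem_bot, OneMemClass.coe_eq_one] at hxA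
    rw [hxA, orderOf_one] at hx
    exact hp.one_lt.ne hx

omit [Finite G] in
theorem Radfree.of_equiv {G' : Type*} [Group G'] (h : Radfree G) (e : G ≃* G') : Radfree G' := by
  intro N hN hs
  have hs' : Group.IsSolvable ↥(N.comap e.toMonoidHom) := by
    haveI := hs
    exact solvable_of_solvable_injective (f := e.toMonoidHom.subgroupComap N)
      (fun a b hab => Subtype.ext (e.injective (congrArg Subtype.val hab)))
  haveI := hN
  have := h _ inferInstance hs'
  rw [← Subgroup.map_comap_eq_self_of_surjective (f := e.toMonoidHom) e.surjective N, this, Subgroup.map_bot]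

omit [Finite G] in
theorem Radfree.not_isSolvable [Nontrivial G] (h : Radfree G) : ¬ Group.IsSolvable G := fun hs =>
  (top_ne_bot : (⊤ : Subgroup G) ≠ ⊥) (h ⊤ inferInstance
    (Group.isSolvable_of_surjective (f := (Subgroup.topEquiv (G := G)).symm.toMonoidHom)
      (Subgroup.topEquiv (G := G)).symm.surjective))

theorem solvable_of_dvd {p q a b : ℕ} (hp : p.Prime) (hq : q.Prime) (h : Nat.card G ∣ p ^ a * q ^ b) :
    Group.IsSolvable G := by
  obtain ⟨d, e, hd, he, hde⟩ := Nat.dvd_mul.mp h
  obtain ⟨i, -, rfl⟩ := (Nat.dvd_prime_pow hp).1 hd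
  obtain ⟨j, -, rfl⟩ := (Nat.dvd_prime_pow hq).1 he
  exact Cfsg.Agent.Lib.Characters.isSolvable_of_card_eq_pow_mul_pow hp hq hde.symm

theorem Radfree.not_dvd [Nontrivial G] (h : Radfree G) {p q : ℕ} (a b : ℕ) (hp : p.Prime) (hq : q.Prime) :
    ¬ Nat.card G ∣ p ^ a * q ^ b := fun hd => h.not_isSolvable (solvable_of_dvd hp hq hd)

/-- A group with few Sylow seven-subgroups, each with normaliser of order `21`, is simple. -/
theorem isSimpleGroup_of_card {a : ℕ} (hr : Radfree G) [Fact (Nat.Prime 7)]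
    (hn : Nat.card (Sylow 7 G) = 2 ^ a) (hc : Nat.card G = 2 ^ a * 21) : IsSimpleGroup G := by
  haveI : Nontrivial G := Finite.one_lt_card_iff_nontrivial.1 (by
    rw [hc]; have := Nat.two_pow_pos a; omega)
  refine ⟨fun N hN => ?_⟩
  by_contra hno
  push Not at hno
  obtain ⟨hb, ht⟩ := hno
  have hns : ¬ Group.IsSolvable N := fun hs => hb (hr N hN hs)
  obtain ⟨d, e, hd, he, hde⟩ := Nat.dvd_mul.mp (hc ▸ Subgroup.card_subgroup_dvd_card N)
  obtain ⟨i, hi, rfl⟩ := (Nat.dvd_prime_pow Nat.prime_two).1 hd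
  have he' : e = 21 := by
    have : e ≤ 21 := Nat.le_of_dvd (by norm_num) he
    interval_cases e <;> first | rfl | omega | skip
    · exact absurd (solvable_of_dvd (a := i) (b := 0) Nat.prime_two Nat.prime_three (by rw [← hde]; simp)) hns
    · exact absurd (solvable_of_dvd (a := i) (b := 1) Nat.prime_two Nat.prime_three (by rw [← hde]; simp)) hns
    · exact absurd (solvable_of_dvd (a := i) (b := 1) Nat.prime_two (by norm_num : Nat.Prime 7) (by rw [← hde]; simp)) hns
  subst he'
  have hP : ∀ P : Sylow 7 G, (P : Subgroup G) ≤ N := by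
    intro P x hx
    rw [← QuotientGroup.eq_one_iff, ← orderOf_eq_one_iff]
    obtain ⟨k, hk⟩ := IsPGroup.iff_orderOf.1 P.isPGroup' ⟨x, hx⟩
    rw [Subgroup.orderOf_mk] at hk
    have h1 : orderOf (x : G ⧸ N) ∣ 7 ^ k := hk ▸ orderOf_map_dvd (QuotientGroup.mk' N) x
    have h2 : orderOf (x : G ⧸ N) ∣ N.index := by
      rw [Subgroup.index_eq_card]; exact orderOf_dvd_natCard _
    have hidx : Nat.Coprime N.index (7 ^ k) := by
      have hm := N.index_mul_card
      rw [← hde, hc, ← mul_assoc] at hm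
      have hm' := Nat.eq_of_mul_eq_mul_right (by norm_num : 0 < 21) hm
      exact Nat.Coprime.pow_right k (Nat.Coprime.coprime_dvd_left ⟨_, hm'.symm⟩
        (Nat.Coprime.pow_left a (by norm_num)))
    exact Nat.eq_one_of_dvd_coprimes hidx h2 h1
  have hcount : Nat.card (Sylow 7 N) = 2 ^ a := by
    rw [← hn]
    refine (Nat.card_eq_of_bijective (fun P => P.subtype (hP P)) ⟨?_, ?_⟩).symm
    · intro P Q h
      exact Sylow.subtype_injective h
    · intro Q
      obtain ⟨P, hPQ⟩ := Sylow.exists_comap_subtype_eq Q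
      exact ⟨P, Sylow.ext hPQ⟩
  obtain ⟨Q⟩ : Nonempty (Sylow 7 N) := inferInstance
  have hdiv : 2 ^ a ∣ 2 ^ i * 21 := by
    rw [hde, ← hcount, Q.card_eq_index_normalizer]
    exact Subgroup.index_dvd_card _
  have : 2 ^ a ∣ 2 ^ i := (Nat.Coprime.pow_left a (by norm_num : Nat.Coprime 2 21)).dvd_of_dvd_mul_right hdiv
  refine ht (Subgroup.eq_top_of_card_eq N ?_)
  rw [hc, ← hde, Nat.dvd_antisymm this hd]

/-- The order of a radical-free group of even permutations of eight points, in terms of its number of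
Sylow seven-subgroups. -/
theorem card_eq_sylow_seven_mul (K : Subgroup (Perm (Fin 8))) (hKA : K ≤ alternatingGroup (Fin 8))
    [Nontrivial K] (hr : Radfree K) [Fact (Nat.Prime 7)] (h7 : 7 ∣ Nat.card K) {p q a b : ℕ}
    (hp : p.Prime) (hq : q.Prime) (hn : Nat.card (Sylow 7 K) ∣ p ^ a * q ^ b) :
    Nat.card K = Nat.card (Sylow 7 K) * 21 := by
  classical
  obtain ⟨P⟩ : Nonempty (Sylow 7 K) := inferInstance
  obtain ⟨S, hS⟩ := (P.isPGroup'.map K.subtype).exists_le_sylow
  have hScard : Nat.card (S : Subgroup (Perm (Fin 8))) = 7 :=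
    Cfsg.Agent.Lib.SylowCounting.perm_sylow_card (by simp) (by simp) S
  have hPdvd : 7 ∣ Nat.card (P : Subgroup K) := P.dvd_card_of_dvd_card h7
  have hPmap : Nat.card ((P : Subgroup K).map K.subtype) = Nat.card (P : Subgroup K) :=
    Nat.card_congr ((P : Subgroup K).equivMapOfInjective _ K.subtype_injective).toEquiv.symm
  have hPcard : Nat.card (P : Subgroup K) = 7 := by
    have := Subgroup.card_dvd_of_le hS
    rw [hPmap, hScard] at this
    exact Nat.dvd_antisymm this hPdvd
  have hSeq : (P : Subgroup K).map K.subtype = (S : Subgroup (Perm (Fin 8))) :=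
    Subgroup.eq_of_le_of_card_ge hS (by rw [hPmap, hScard, hPcard])
  let N : Subgroup K := Subgroup.normalizer ((P : Subgroup K) : Set K)
  have hsub : N.map K.subtype ≤ Subgroup.normalizer ((S : Subgroup (Perm (Fin 8))) : Set (Perm (Fin 8))) ⊓
      alternatingGroup (Fin 8) := by
    refine le_inf ?_ ((Subgroup.map_subtype_le _).trans hKA)
    rw [← hSeq]
    exact Subgroup.le_normalizer_map _
  have h21 : Nat.card N ∣ 21 := by
    have h1 := (Cfsg.Agent.Lib.SylowCounting.two_mul_card_normalizer_inf_alternating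
      (p := 7) (by norm_num) S).2
    rw [Cfsg.Agent.Lib.SylowCounting.card_normalizer_perm_sylow (by simp) (by simp) S, Fintype.card_fin] at h1
    have h2 := Subgroup.card_dvd_of_le hsub
    rw [Nat.card_congr (N.equivMapOfInjective _ K.subtype_injective).toEquiv.symm] at h2
    rw [show 7 * (7 - 1) * Nat.factorial (8 - 7) = 42 from rfl] at h1
    refine h2.trans (dvd_of_eq ?_)
    omega
  have hK : Nat.card K = Nat.card (Sylow 7 K) * Nat.card N := by
    rw [P.card_eq_index_normalizer]
    exact (N.index_mul_card).symm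
  have hPN : (P : Subgroup K) ≤ N := Subgroup.le_normalizer
  have hle : Nat.card N ≤ 21 := Nat.le_of_dvd (by norm_num) h21
  have h7N : 7 ∣ Nat.card N := hPcard ▸ Subgroup.card_dvd_of_le hPN
  obtain hN | hN : Nat.card N = 7 ∨ Nat.card N = 21 := by
    obtain ⟨c, hc⟩ := h7N
    obtain ⟨d, hd⟩ := h21
    rw [hc] at hd hle
    have : c ≤ 3 := by omega
    rcases (by omega : c = 0 ∨ c = 1 ∨ c = 2 ∨ c = 3) with rfl | rfl | rfl | rfl <;> omega
  swap
  · rw [hK, hN]
  exfalso
  have hNP : N = (P : Subgroup K) := (Subgroup.eq_of_le_of_card_ge hPN (by rw [hN, hPcard])).symm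
  haveI : IsCyclic (P : Subgroup K) := isCyclic_of_prime_card hPcard
  have hcen : Subgroup.normalizer ((P : Subgroup K) : Set K) ≤ Subgroup.centralizer ((P : Subgroup K) : Set K) := by
    intro x hx
    change x ∈ N at hx
    rw [hNP] at hx
    rw [Subgroup.mem_centralizer_iff]
    intro y hy
    letI : CommGroup (P : Subgroup K) := IsCyclic.commGroup
    exact congrArg Subtype.val (mul_comm (⟨y, hy⟩ : (P : Subgroup K)) ⟨x, hx⟩)
  have hcompl := MonoidHom.ker_transferSylow_isComplement' P hcen
  have hM := hcompl.index_eq_card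
  have hMc := hcompl.card_mul
  rw [hPcard, hK, hN] at hMc
  have hb := hr _ (MonoidHom.normal_ker _) (solvable_of_dvd hp hq
    (show Nat.card (MonoidHom.transferSylow P hcen).ker ∣ p ^ a * q ^ b by
      convert! hn using 1; omega))
  rw [hb, Subgroup.card_bot] at hMc
  refine hr.not_isSolvable (solvable_of_dvd (a := 1) (b := 0) (by norm_num : Nat.Prime 7) Nat.prime_two ?_)
  rw [hK, hN, show Nat.card (Sylow 7 K) = 1 by omega]
  norm_num

/-- A proper subgroup of a simple group has large index. -/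
theorem card_dvd_factorial_index [IsSimpleGroup G] {L : Subgroup G} (hL : L ≠ ⊤) :
    Nat.card G ∣ Nat.factorial L.index := by
  have hinj : Function.Injective (MulAction.toPermHom G (G ⧸ L)) := by
    rw [← MonoidHom.ker_eq_bot_iff, ← Subgroup.normalCore_eq_ker]
    exact (IsSimpleGroup.eq_bot_or_eq_top_of_normal _ L.normalCore_normal).resolve_right fun h =>
      hL (top_le_iff.mp (h ▸ L.normalCore_le))
  have h := Subgroup.card_dvd_of_injective _ hinj
  rwa [Nat.card_perm, ← Subgroup.index_eq_card] at h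

/-- A core-free subgroup of index six embeds in `S₅`. -/
theorem exists_hom_perm_five (M : Subgroup G) (hcore : M.normalCore = ⊥) (hi : M.index = 6) :
    ∃ φ : M →* Perm (Fin 5), Function.Injective φ := by
  classical
  haveI : Fintype (G ⧸ M) := Fintype.ofFinite _
  have hinj : Function.Injective (MulAction.toPermHom G (G ⧸ M)) := by
    rw [← MonoidHom.ker_eq_bot_iff, ← Subgroup.normalCore_eq_ker, hcore]
  obtain ⟨ρ, hρ⟩ : ∃ ρ, ρ = MulAction.toPermHom G (G ⧸ M) := ⟨_, rfl⟩
  have hbase : ∀ m : M, ρ m ((1 : G) : G ⧸ M) = ((1 : G) : G ⧸ M) := by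
    intro m
    subst hρ
    show (m : G) • ((1 : G) : G ⧸ M) = _
    rw [MulAction.Quotient.smul_coe, smul_eq_mul, mul_one, QuotientGroup.eq, mul_one, inv_mem_iff]
    exact m.2
  have hpres : ∀ (m : M) (c : G ⧸ M), ρ m c ≠ ((1 : G) : G ⧸ M) ↔ c ≠ ((1 : G) : G ⧸ M) := fun m c =>
    ((ρ m).injective.ne_iff' (hbase m))
  let φ : M →* Perm {c : G ⧸ M // c ≠ ((1 : G) : G ⧸ M)} :=
    { toFun := fun m => (ρ m).subtypePerm (hpres m)
      map_one' := by ext c; simp
      map_mul' := fun x y => Equiv.ext fun c => Subtype.ext (by show ρ ((x * y : M) : G) c = ρ x (ρ y c); rw [Subgroup.coe_mul, map_mul]; rfl) }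
  have hcard : Fintype.card {c : G ⧸ M // c ≠ ((1 : G) : G ⧸ M)} = 5 := by
    rw [Fintype.card_subtype_compl, Fintype.card_subtype_eq, ← Nat.card_eq_fintype_card, ← Subgroup.index_eq_card, hi]
  refine ⟨(Fintype.equivFinOfCardEq hcard).permCongrHom.toMonoidHom.comp φ,
    (Fintype.equivFinOfCardEq hcard).permCongrHom.injective.comp fun x y hxy => Subtype.ext (hinj ?_)⟩
  rw [← hρ]
  ext c
  by_cases hc : c = ((1 : G) : G ⧸ M)
  · rw [hc, hbase, hbase]
  · exact congrArg Subtype.val (DFunLike.congr_fun hxy ⟨c, hc⟩)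

theorem nonempty_equiv_perm_of_injective {n : ℕ} {φ : G →* Perm (Fin n)} (hφ : Function.Injective φ)
    (hc : Nat.card G = n.factorial) : Nonempty (G ≃* Perm (Fin n)) := by
  refine ⟨MulEquiv.ofBijective φ ((Nat.bijective_iff_injective_and_card φ).mpr ⟨hφ, ?_⟩)⟩
  rw [hc, Nat.card_perm, Nat.card_fin]

theorem nonempty_equiv_alternating_of_injective {n : ℕ} {φ : G →* Perm (Fin n)} (hφ : Function.Injective φ)
    (hc : 2 * Nat.card G = n.factorial) : Nonempty (G ≃* alternatingGroup (Fin n)) := by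
  have hr : Nat.card φ.range = Nat.card G := (Nat.card_congr (MonoidHom.ofInjective hφ).toEquiv).symm
  have hi : φ.range.index = 2 := by
    have := φ.range.index_mul_card
    rw [hr, Nat.card_perm, Nat.card_fin, ← hc] at this
    exact Nat.eq_of_mul_eq_mul_right Nat.card_pos this
  exact ⟨(MonoidHom.ofInjective hφ).trans (MulEquiv.subgroupCongr (Equiv.Perm.eq_alternatingGroup_of_index_eq_two hi))⟩

end Cfsg.Agent.Lib.QuadFin.EightPoint
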