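import Cfsg.Agent.Lib.QuadFin.EightPointRadical
import Cfsg.Agent.Lib.Perm.Jordan
import Cfsg.Agent.Lib.Recognition.OrderSixty
import Mathlib.GroupTheory.GroupAction.Primitive
import Mathlib.GroupTheory.GroupAction.Blocks
import Mathlib.GroupTheory.SpecificGroups.Alternating.Simple

/-!
Radical-free groups of even permutations of eight points.
-/

set_option autoImplicit false

namespace Cfsg.Agent.Lib.QuadFin.EightPoint

open Subgroup Equiv
open scoped Pointwise

/-- A subgroup with a cycle of prime length `p ≥ 5` on at most `2p - 1` points and at least one long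
orbit acts primitively on it. -/
theorem isPreprimitive_of_cycle {n : ℕ} (K : Subgroup (Perm (Fin n))) (htr : MulAction.IsPretransitive K (Fin n))
    {p : ℕ} (hp : p.Prime) {g : Perm (Fin n)} (hg : g ∈ K) (hc : g.IsCycle) (hs : g.support.card = p)
    (hn : n < 2 * p) : MulAction.IsPreprimitive K (Fin n) := by
  classical
  obtain ⟨x, hx⟩ : ∃ x, g x ≠ x := ⟨_, hc.choose_spec.1⟩
  haveI := htr
  refine MulAction.IsPreprimitive.of_isTrivialBlock_base x fun {B} hxB hB => ?_
  by_contra hnt
  simp only [MulAction.IsTrivialBlock, not_or] at hnt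
  obtain ⟨hns, hnu⟩ := hnt
  have hord : orderOf g = p := by rw [hc.orderOf, hs]
  let g' : K := ⟨g, hg⟩
  by_cases hgB : g' • B = B
  · -- the whole cycle lies in the block
    have hsub : (g.support : Set (Fin n)) ⊆ B := by
      intro y hy
      obtain ⟨i, hi⟩ := hc.sameCycle hx (Perm.mem_support.mp hy)
      rw [← hi]
      have hmem : g' ^ i ∈ MulAction.stabilizer K B := Subgroup.zpow_mem _ (MulAction.mem_stabilizer_iff.mpr hgB) i
      have := Set.smul_mem_smul_set (a := g' ^ i) hxB
      rw [MulAction.mem_stabilizer_iff.mp hmem] at this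
      exact this
    have h1 : p ≤ B.ncard := by
      rw [← hs, ← Set.ncard_coe_finset]
      exact Set.ncard_le_ncard hsub (Set.toFinite B)
    have h2 := hB.ncard_dvd_card ⟨x, hxB⟩
    rw [Nat.card_eq_fintype_card, Fintype.card_fin] at h2
    obtain ⟨k, hk⟩ := h2
    have hp0 := hp.pos
    have : n ≠ 0 := fun h => by subst h; exact x.elim0
    have hk1 : k = 1 := by
      rcases k with _ | _ | k
      · omega
      · rfl
      · exfalso
        have : B.ncard * 2 ≤ B.ncard * (k + 1 + 1) := Nat.mul_le_mul_left _ (by omega)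
        omega
    refine hnu (Set.eq_of_subset_of_ncard_le (Set.subset_univ B) ?_ (Set.toFinite _))
    rw [Set.ncard_univ, Nat.card_eq_fintype_card, Fintype.card_fin]
    subst hk1
    omega
  · -- the translates of the block are pairwise disjoint
    have hord' : orderOf g' = p := by rw [← hord, ← Subgroup.orderOf_coe]
    have hdis : ∀ i ∈ Finset.range p, ∀ j ∈ Finset.range p, i ≠ j → Disjoint (g' ^ i • B) (g' ^ j • B) := by
      intro i hi j hj hij
      apply hB
      intro heq
      apply hgB
      rw [Finset.mem_range] at hi hj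
      have hne : g' ^ ((i : ℤ) - j) ≠ 1 := by
        rw [Ne, ← orderOf_dvd_iff_zpow_eq_one, hord']
        intro hd
        obtain ⟨c, hc⟩ := hd
        rcases lt_trichotomy c 0 with h | h | h
        · have : (p : ℤ) * c ≤ p * (-1) := by gcongr; omega
          omega
        · subst h; omega
        · have : (p : ℤ) * 1 ≤ p * c := by gcongr; omega
          omega
      have hmem : g' ^ ((i : ℤ) - j) ∈ MulAction.stabilizer K B := by
        rw [MulAction.mem_stabilizer_iff, show g' ^ ((i : ℤ) - j) = (g' ^ j)⁻¹ * g' ^ i by group,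
          mul_smul, heq, inv_smul_smul]
      have hgen : g' ∈ Subgroup.zpowers (g' ^ ((i : ℤ) - j)) := by
        haveI : Fact p.Prime := ⟨hp⟩
        have hcard : Nat.card (Subgroup.zpowers g') = p := by rw [Nat.card_zpowers, hord']
        have := (Subgroup.eq_of_le_of_card_ge
          (Subgroup.zpowers_le.mpr (Subgroup.zpow_mem_zpowers g' ((i : ℤ) - j))) (by
            rw [hcard, Nat.card_zpowers]
            exact (orderOf_eq_prime (by rw [← zpow_natCast, ← zpow_mul, mul_comm, zpow_mul, zpow_natCast,
              ← hord', pow_orderOf_eq_one, one_zpow]) hne).ge))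
        rw [this]; exact Subgroup.mem_zpowers g'
      exact MulAction.mem_stabilizer_iff.mp (Subgroup.zpowers_le.mpr hmem hgen)
    have h2 : 2 ≤ B.ncard := by
      rw [Nat.succ_le_iff, Set.one_lt_ncard_iff_nontrivial]
      exact Set.not_subsingleton_iff.mp hns
    have htot : ((Finset.range p).biUnion fun i => (g' ^ i • B).toFinset).card ≤ n :=
      (Finset.card_le_univ _).trans (Fintype.card_fin n).le
    rw [Finset.card_biUnion (fun i hi j hj hij => Set.disjoint_toFinset.mpr (hdis i hi j hj hij)),
      Finset.sum_congr rfl (fun i _ => show (g' ^ i • B).toFinset.card = B.ncard by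
        rw [← Set.ncard_eq_toFinset_card']
        exact (Set.ncard_image_of_injective _ (MulAction.injective (g' ^ i)))),
      Finset.sum_const, Finset.card_range, smul_eq_mul] at htot
    have : p * 2 ≤ p * B.ncard := Nat.mul_le_mul_left _ h2
    omega

variable {G : Type*} [Group G] [Finite G]

theorem isSolvable_of_card_le_forty_five (hc : Nat.card G ∈ [5, 10, 15, 20, 30, 40, 45]) : Group.IsSolvable G := by
  simp only [List.mem_cons, List.not_mem_nil, or_false] at hc
  have h5 : Nat.Prime 5 := by norm_num
  rcases hc with h | h | h | h | h | h | h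
  · exact solvable_of_dvd (a := 1) (b := 0) h5 Nat.prime_two (by rw [h]; norm_num)
  · exact solvable_of_dvd (a := 1) (b := 1) h5 Nat.prime_two (by rw [h]; norm_num)
  · exact solvable_of_dvd (a := 1) (b := 1) h5 Nat.prime_three (by rw [h]; norm_num)
  · exact solvable_of_dvd (a := 1) (b := 2) h5 Nat.prime_two (by rw [h]; norm_num)
  · haveI : Fact (Nat.Prime 5) := ⟨h5⟩
    obtain ⟨P⟩ : Nonempty (Sylow 5 G) := inferInstance
    have hn := Cfsg.Agent.Lib.Recognition.sylow_five_normal_of_card_thirty h P
    have hP : Nat.card (P : Subgroup G) = 5 :=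
      Cfsg.Agent.Lib.Recognition.sylow_card_eq_prime P (by rw [h]; norm_num) (by rw [h]; norm_num)
    haveI : Group.IsSolvable (P : Subgroup G) :=
      solvable_of_dvd (a := 1) (b := 0) h5 Nat.prime_two (by rw [hP]; norm_num)
    haveI : Group.IsSolvable (G ⧸ (P : Subgroup G)) :=
      solvable_of_dvd (a := 1) (b := 1) Nat.prime_two Nat.prime_three (by
        have := (P : Subgroup G).index_mul_card
        rw [hP, h, Subgroup.index_eq_card] at this
        rw [show Nat.card (G ⧸ (P : Subgroup G)) = 6 by omega]; norm_num)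
    exact Group.isSolvable_of_ker_le_range (P : Subgroup G).subtype (QuotientGroup.mk' (P : Subgroup G))
      (by rw [QuotientGroup.ker_mk', Subgroup.range_subtype])
  · exact solvable_of_dvd (a := 1) (b := 3) h5 Nat.prime_two (by rw [h]; norm_num)
  · exact solvable_of_dvd (a := 1) (b := 2) h5 Nat.prime_three (by rw [h]; norm_num)

theorem perm_five_six_bound {k : ℕ} (hk : k = 5 ∨ k = 6) (L : Subgroup (alternatingGroup (Fin k)))
    (hL : L ≠ ⊤) (hns : ¬ Group.IsSolvable L) : k = 6 ∧ Nat.card L = 60 := by
  have hA : Nat.card (alternatingGroup (Fin k)) = k.factorial / 2 := by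
    haveI : Nontrivial (Fin k) := by rcases hk with rfl | rfl <;> infer_instance
    rw [nat_card_alternatingGroup, Nat.card_fin]
  haveI : IsSimpleGroup (alternatingGroup (Fin k)) :=
    alternatingGroup.isSimpleGroup (by rcases hk with rfl | rfl <;> simp)
  have hidx := card_dvd_factorial_index hL
  have hm := L.index_mul_card
  rw [hA] at hidx hm
  rcases hk with rfl | rfl <;> norm_num [Nat.factorial] at hidx hm
  · exfalso
    have h5 : 5 ≤ L.index := by
      by_contra h
      interval_cases hi : L.index <;> norm_num [Nat.factorial] at hidx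
    have hle : Nat.card L ≤ 12 := by nlinarith
    have hd : Nat.card L ∣ 60 := ⟨L.index, by rw [mul_comm]; exact hm.symm⟩
    apply hns
    have h5' : Nat.Prime 5 := by norm_num
    have hpos : 0 < Nat.card L := Nat.card_pos
    have : Nat.card L ∣ 2 ^ 2 * 3 ^ 1 ∨ Nat.card L ∣ 5 ^ 1 * 2 ^ 1 := by
      generalize Nat.card L = c at hle hd hpos ⊢
      interval_cases c <;> revert hd <;> decide
    rcases this with h | h
    · exact solvable_of_dvd Nat.prime_two Nat.prime_three h
    · exact solvable_of_dvd h5' Nat.prime_two h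
  · refine ⟨rfl, ?_⟩
    have h6 : 6 ≤ L.index := by
      by_contra h
      interval_cases hi : L.index <;> norm_num [Nat.factorial] at hidx
    have hle : Nat.card L ≤ 60 := by nlinarith
    have hd : Nat.card L ∣ 360 := ⟨L.index, by rw [mul_comm]; exact hm.symm⟩
    by_contra h60
    apply hns
    have hpos : 0 < Nat.card L := Nat.card_pos
    have : Nat.card L ∣ 2 ^ 3 * 3 ^ 2 ∨ Nat.card L ∈ [5, 10, 15, 20, 30, 40, 45] := by
      generalize Nat.card L = c at hle hd hpos h60 ⊢
      interval_cases c <;> first | omega | (norm_num at hd ⊢; done) | (left; norm_num; done) | (right; decide)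
    rcases this with h | h
    · exact solvable_of_dvd Nat.prime_two Nat.prime_three h
    · exact isSolvable_of_card_le_forty_five h

theorem classify_five_six {k : ℕ} (hk : k = 5 ∨ k = 6) (M : Subgroup (Perm (Fin k))) [Nontrivial M]
    (hr : Radfree M) :
    (∃ m : ℕ, 5 ≤ m ∧ m ≤ 8 ∧ Nonempty (M ≃* alternatingGroup (Fin m))) ∨
      Nonempty (M ≃* Perm (Fin 5)) ∨ Nonempty (M ≃* Perm (Fin 6)) := by
  classical
  haveI : Nontrivial (Fin k) := by rcases hk with rfl | rfl <;> infer_instance
  have hA2 : (alternatingGroup (Fin k)).index = 2 := alternatingGroup.index_eq_two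
  let L : Subgroup (alternatingGroup (Fin k)) := M.subgroupOf (alternatingGroup (Fin k))
  let L' : Subgroup M := (alternatingGroup (Fin k)).subgroupOf M
  have hcardLL : Nat.card L = Nat.card L' := by
    exact Nat.card_congr
      { toFun := fun z => (⟨⟨z.1.1, z.2⟩, z.1.2⟩ : L')
        invFun := fun z => (⟨⟨z.1.1, z.2⟩, z.1.2⟩ : L)
        left_inv := fun _ => rfl
        right_inv := fun _ => rfl }
  have hL'i : L'.index ∣ 2 := by
    rw [← hA2]; exact Subgroup.relIndex_dvd_index_of_normal _ _
  have hML : Nat.card M = Nat.card L ∨ Nat.card M = 2 * Nat.card L := by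
    have := L'.index_mul_card
    rcases (Nat.dvd_prime Nat.prime_two).mp hL'i with h | h <;> rw [h] at this <;> omega
  have hns : ¬ Group.IsSolvable L := by
    intro hs
    have hs' : Group.IsSolvable L' := by
      haveI := hs
      let ι : L' →* L :=
        { toFun := fun z => ⟨⟨z.1.1, z.2⟩, z.1.2⟩
          map_one' := rfl
          map_mul' := fun _ _ => rfl }
      exact solvable_of_solvable_injective (f := ι) (fun a b h => Subtype.ext (Subtype.ext (congrArg (fun z : L => z.1.1) h)))
    have hb := hr L' inferInstance hs'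
    rw [hcardLL, hb, Subgroup.card_bot] at hML
    refine hr.not_dvd 1 0 Nat.prime_two Nat.prime_three ?_
    rcases hML with h | h <;> rw [h] <;> norm_num
  have hSk : Nat.card (Perm (Fin k)) = k.factorial := by rw [Nat.card_perm, Nat.card_fin]
  by_cases htop : L = ⊤
  · have hAM : alternatingGroup (Fin k) ≤ M := Subgroup.subgroupOf_eq_top.mp htop
    rcases (Nat.dvd_prime Nat.prime_two).mp (hA2 ▸ Subgroup.index_dvd_of_le hAM) with h | h
    · have hM : M = ⊤ := Subgroup.index_eq_one.mp h
      subst hM
      rcases hk with rfl | rfl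
      · exact Or.inr (Or.inl ⟨Subgroup.topEquiv⟩)
      · exact Or.inr (Or.inr ⟨Subgroup.topEquiv⟩)
    · exact Or.inl ⟨k, by omega, by omega, ⟨MulEquiv.subgroupCongr (Equiv.Perm.eq_alternatingGroup_of_index_eq_two h)⟩⟩
  obtain ⟨rfl, h60⟩ := perm_five_six_bound hk L htop hns
  have hA : Nat.card (alternatingGroup (Fin 6)) = 360 := by
    rw [nat_card_alternatingGroup, Nat.card_fin]; rfl
  haveI : IsSimpleGroup (alternatingGroup (Fin 6)) := alternatingGroup.isSimpleGroup (by simp)
  rcases hML with h | h
  · -- inside the alternating group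
    rw [h60] at h
    have hMA : M ≤ alternatingGroup (Fin 6) := by
      have : L' = ⊤ := Subgroup.eq_top_of_card_eq _ (by rw [← hcardLL, h60, h])
      exact Subgroup.subgroupOf_eq_top.mp this
    have hLi : L.index = 6 := by
      have := L.index_mul_card
      rw [h60, hA] at this; omega
    have hcore : L.normalCore = ⊥ :=
      (IsSimpleGroup.eq_bot_or_eq_top_of_normal _ L.normalCore_normal).resolve_right fun e =>
        htop (top_le_iff.mp (e ▸ L.normalCore_le))
    obtain ⟨φ, hφ⟩ := exists_hom_perm_five L hcore hLi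
    obtain ⟨e⟩ := nonempty_equiv_alternating_of_injective hφ (by rw [h60]; rfl)
    exact Or.inl ⟨5, le_rfl, by norm_num, ⟨(Subgroup.subgroupOfEquivOfLe hMA).symm.trans e⟩⟩
  · rw [h60] at h
    have hMi : M.index = 6 := by
      have := M.index_mul_card
      rw [h, hSk] at this
      norm_num [Nat.factorial] at this
      omega
    have hcore : M.normalCore = ⊥ := by
      let N : Subgroup M := M.normalCore.subgroupOf M
      have hNs : Group.IsSolvable N := by
        -- the core meets the alternating group trivially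
        have hbot : M.normalCore.subgroupOf (alternatingGroup (Fin 6)) = ⊥ := by
          refine (IsSimpleGroup.eq_bot_or_eq_top_of_normal _ inferInstance).resolve_right fun e => htop ?_
          rw [Subgroup.subgroupOf_eq_top] at e
          exact Subgroup.subgroupOf_eq_top.mpr (e.trans M.normalCore_le)
        refine solvable_of_solvable_injective (f := (Perm.sign.comp M.subtype).comp N.subtype) fun x y hxy => ?_
        have hz : ((x.1 : Perm (Fin 6))⁻¹ * y.1) ∈ M.normalCore := mul_mem (inv_mem x.2) y.2
        have hzA : ((x.1 : Perm (Fin 6))⁻¹ * y.1) ∈ alternatingGroup (Fin 6) := by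
          rw [Perm.mem_alternatingGroup, map_mul, map_inv, inv_mul_eq_one]
          exact hxy
        have : (⟨_, hzA⟩ : alternatingGroup (Fin 6)) ∈ M.normalCore.subgroupOf (alternatingGroup (Fin 6)) := hz
        rw [hbot, Subgroup.mem_bot] at this
        exact Subtype.ext (Subtype.ext (inv_mul_eq_one.mp (congrArg Subtype.val this)))
      haveI : N.Normal := Subgroup.Normal.subgroupOf inferInstance M
      have := hr N inferInstance hNs
      rw [Subgroup.subgroupOf_eq_bot] at this
      exact disjoint_self.mp (this.mono_right M.normalCore_le)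
    obtain ⟨φ, hφ⟩ := exists_hom_perm_five M hcore hMi
    exact Or.inr (Or.inl (nonempty_equiv_perm_of_injective hφ (by rw [h]; rfl)))

theorem classify_seven (M : Subgroup (Perm (Fin 8))) (hMA : M ≤ alternatingGroup (Fin 8)) [Nontrivial M]
    (hr : Radfree M) {f : M →* alternatingGroup (Fin 7)} (hf : Function.Injective f)
    (h2 : 2 ∣ Nat.card M)
    (h5 : 5 ∣ Nat.card M) (h7 : 7 ∣ Nat.card M) : Nonempty (M ≃* alternatingGroup (Fin 7)) := by
  haveI : Fact (Nat.Prime 7) := ⟨by norm_num⟩
  haveI : IsSimpleGroup (alternatingGroup (Fin 7)) := alternatingGroup.isSimpleGroup (by simp)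
  have hA : Nat.card (alternatingGroup (Fin 7)) = 2520 := by
    rw [nat_card_alternatingGroup, Nat.card_fin]; rfl
  have hR : Nat.card f.range = Nat.card M := (Nat.card_congr (MonoidHom.ofInjective hf).toEquiv).symm
  by_cases htop : f.range = ⊤
  · exact ⟨(MonoidHom.ofInjective hf).trans ((MulEquiv.subgroupCongr htop).trans Subgroup.topEquiv)⟩
  exfalso
  have hidx := card_dvd_factorial_index htop
  have hm := f.range.index_mul_card
  rw [hA] at hidx hm
  rw [hR] at hm
  have h7' : 7 ≤ f.range.index := by
    by_contra h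
    interval_cases hi : f.range.index <;> norm_num [Nat.factorial] at hidx
  have hle : Nat.card M ≤ 360 := by nlinarith
  have hd : Nat.card M ∣ 2520 := ⟨f.range.index, by rw [mul_comm]; exact hm.symm⟩
  obtain ⟨P⟩ : Nonempty (Sylow 7 M) := inferInstance
  have hn1 : Nat.card (Sylow 7 M) % 7 = 1 := card_sylow_modEq_one 7 M
  have hn2 : Nat.card (Sylow 7 M) ∣ 360 := by
    have hdiv : Nat.card (Sylow 7 M) ∣ Nat.card M := by
      rw [P.card_eq_index_normalizer]; exact Subgroup.index_dvd_card _
    refine Nat.Coprime.dvd_of_dvd_mul_left (m := 7) ?_ (hdiv.trans hd)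
    rw [Nat.coprime_comm, (Fact.out : Nat.Prime 7).coprime_iff_not_dvd]
    omega
  have hsmall : Nat.card (Sylow 7 M) = 120 ∨ Nat.card (Sylow 7 M) ∈ [1, 8, 15, 36] := by
    have hle' := Nat.le_of_dvd (by norm_num) hn2
    generalize Nat.card (Sylow 7 M) = c at hn1 hn2 hle'
    interval_cases c <;> first | omega | (norm_num at hn2 ⊢)
  rcases hsmall with h | h
  · have hdiv : Nat.card (Sylow 7 M) ∣ Nat.card M := by
      rw [P.card_eq_index_normalizer]; exact Subgroup.index_dvd_card _
    rw [h] at hdiv
    obtain ⟨c, hc⟩ := (show Nat.Coprime 120 7 by norm_num).mul_dvd_of_dvd_of_dvd hdiv h7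
    have : 0 < Nat.card M := Nat.card_pos
    omega
  · obtain ⟨p, q, a, b, hp, hq, hpq⟩ : ∃ p q a b : ℕ, p.Prime ∧ q.Prime ∧ Nat.card (Sylow 7 M) ∣ p ^ a * q ^ b := by
      simp only [List.mem_cons, List.not_mem_nil, or_false] at h
      rcases h with h | h | h | h <;> rw [h]
      · exact ⟨2, 3, 0, 0, Nat.prime_two, Nat.prime_three, by norm_num⟩
      · exact ⟨2, 3, 3, 0, Nat.prime_two, Nat.prime_three, by norm_num⟩
      · exact ⟨5, 3, 1, 1, by norm_num, Nat.prime_three, by norm_num⟩
      · exact ⟨2, 3, 2, 2, Nat.prime_two, Nat.prime_three, by norm_num⟩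
    have hc := card_eq_sylow_seven_mul M hMA hr h7 hp hq hpq
    simp only [List.mem_cons, List.not_mem_nil, or_false] at h
    rcases h with h | h | h | h <;> rw [h] at hc <;> omega

end Cfsg.Agent.Lib.QuadFin.EightPoint
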