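import Mathlib.NumberTheory.Zsqrtd.GaussianInt
import Cfsg.Agent.Lib.QuadFin.TypeTwo
import Cfsg.Agent.Lib.Geometry.OrthBridge

/-!
The even subsets of a set of size `4k + 4` modulo complementation, as a quadratic space over the
field of two elements with the action of the symmetric group.
-/

set_option autoImplicit false
set_option maxHeartbeats 800000

namespace Cfsg.Agent.Lib.QuadFin

open QuadraticMap (polarBilin)
open Module (finrank)
open Cfsg.Agent.Lib.Geometry

attribute [-simp] QuadraticMap.polarBilin_apply_apply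

namespace EvenSubsets

/-- `0 ↦ 0`, `1 ↦ 1`. -/
def lift4 (a : ZMod 2) : ZMod 4 := if a = 1 then 1 else 0

/-- `0 ↦ 0`, `1 ↦ 2`. -/
def dbl : ZMod 2 →+ ZMod 4 where
  toFun a := if a = 1 then 2 else 0
  map_zero' := by decide
  map_add' := by decide +kernel

/-- Half of an even class modulo `4`. -/
def half4 (a : ZMod 4) : ZMod 2 := ((a.val / 2 : ℕ) : ZMod 2)

/-- Reduction modulo 2. -/
def red : ZMod 4 →+* ZMod 2 := ZMod.castHom (by norm_num) (ZMod 2)

theorem lift4_add : ∀ a b, lift4 (a + b) = lift4 a + lift4 b + dbl (a * b) := by decide +kernel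
theorem lift4_add_one : ∀ a, lift4 (a + 1) = 1 - lift4 a := by decide +kernel
theorem red_lift4 : ∀ a, red (lift4 a) = a := by decide +kernel
theorem half4_add : ∀ a b : ZMod 4, ∀ x : ZMod 2, red a = 0 → red b = 0 →
    half4 (a + b + dbl x) = half4 a + half4 b + x := by decide +kernel
theorem half4_neg : ∀ a : ZMod 4, red a = 0 → half4 (-a) = half4 a := by decide +kernel

/-- Powers of `i`. -/
def gpow (a : ZMod 4) : GaussianInt :=
  if a = 0 then 1 else if a = 1 then ⟨0, 1⟩ else if a = 2 then -1 else ⟨0, -1⟩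

theorem gpow_add : ∀ a b, gpow (a + b) = gpow a * gpow b := by decide +kernel
theorem gpow_re_odd : ∀ a : ZMod 4, red a ≠ 0 → (gpow a).re = 0 := by decide +kernel
theorem gpow_re_even : ∀ a : ZMod 4, red a = 0 →
    (gpow a).re = if half4 a = 0 then 1 else -1 := by decide +kernel

variable (k : ℕ)

/-- The space of functions on `4k + 4` points. -/
abbrev Sp := Fin (4 * k + 4) → ZMod 2

theorem cast_N_two : ((4 * k + 4 : ℕ) : ZMod 2) = 0 := by
  rw [ZMod.natCast_eq_zero_iff_even]; exact ⟨2 * k + 2, by omega⟩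

theorem cast_N_four : ((4 * k + 4 : ℕ) : ZMod 4) = 0 := by
  rw [ZMod.natCast_eq_zero_iff]; exact ⟨k + 1, by ring⟩

/-- The weight modulo 4. -/
def wt (v : Sp k) : ZMod 4 := ∑ i, lift4 (v i)

theorem wt_comp (σ : Equiv.Perm (Fin (4 * k + 4))) (v : Sp k) : wt k (v ∘ σ) = wt k v :=
  Equiv.sum_comp σ fun i => lift4 (v i)

theorem wt_add (u v : Sp k) : wt k (u + v) = wt k u + wt k v + dbl (u ⬝ᵥ v) := by
  simp only [wt, dotProduct, map_sum, Pi.add_apply, lift4_add, Finset.sum_add_distrib]

theorem red_wt (v : Sp k) : red (wt k v) = ∑ i, v i := by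
  simp only [wt, map_sum, red_lift4]

theorem half_wt_add_const (v : Sp k) (hv : ∑ i, v i = 0) (c : ZMod 2) :
    half4 (wt k (v + fun _ => c)) = half4 (wt k v) := by
  rcases zmodTwo_cases c with rfl | rfl
  · exact congrArg (fun z => half4 (wt k z)) (add_zero v)
  · have h : wt k (v + fun _ => (1 : ZMod 2)) = - wt k v := by
      simp only [wt, Pi.add_apply, lift4_add_one, Finset.sum_sub_distrib, Finset.sum_const,
        Finset.card_univ, Fintype.card_fin, nsmul_eq_mul, mul_one, cast_N_four, zero_sub]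
    rw [h, half4_neg _ (by rw [red_wt, hv])]

/-- `v ↦ (Σ v, v 0)`. -/
def conds : Sp k →ₗ[ZMod 2] ZMod 2 × ZMod 2 :=
  (∑ i, LinearMap.proj i).prod (LinearMap.proj 0)

theorem conds_apply (v : Sp k) : conds k v = (∑ i, v i, v 0) := by
  simp [conds]

/-- Even subsets not containing `0`. -/
def E : Submodule (ZMod 2) (Sp k) := LinearMap.ker (conds k)

theorem mem_E {v : Sp k} : v ∈ E k ↔ ∑ i, v i = 0 ∧ v 0 = 0 := by
  rw [E, LinearMap.mem_ker, conds_apply, Prod.ext_iff]
  rfl

noncomputable instance : Fintype (E k) := Fintype.ofFinite _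

theorem finrank_E : finrank (ZMod 2) (E k) = 4 * k + 2 := by
  have h := LinearMap.finrank_range_add_finrank_ker (conds k)
  have hs : LinearMap.range (conds k) = ⊤ := by
    rw [LinearMap.range_eq_top]
    rintro ⟨a, b⟩
    let one1 : Fin (4 * k + 4) := ⟨1, by omega⟩
    refine ⟨Pi.single one1 (a + b) + Pi.single 0 b, ?_⟩
    rw [conds_apply]
    have hne : (0 : Fin (4 * k + 4)) ≠ one1 := by
      intro hh; exact absurd (congrArg Fin.val hh) (by simp [one1])
    refine Prod.ext ?_ (by simp [hne])
    simp [Finset.sum_add_distrib, add_assoc, CharTwo.add_self_eq_zero]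
  rw [hs, finrank_top, Module.finrank_prod, Module.finrank_self, Module.finrank_fintype_fun_eq_card,
    Fintype.card_fin] at h
  show finrank (ZMod 2) (LinearMap.ker (conds k)) = _
  omega

theorem form_add {u v : Sp k} (hu : ∑ i, u i = 0) (hv : ∑ i, v i = 0) :
    half4 (wt k (u + v)) = half4 (wt k u) + half4 (wt k v) + u ⬝ᵥ v := by
  rw [wt_add, half4_add _ _ _ (by rw [red_wt, hu]) (by rw [red_wt, hv])]

/-- Half of the weight, modulo 2. -/
def form : QuadraticForm (ZMod 2) (E k) :=
  QuadraticMap.ofPolar (fun v => half4 (wt k v.1))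
    (fun a x => by
      rcases zmodTwo_cases a with rfl | rfl
      · simp [wt, lift4, half4]
      · simp)
    (fun x x' y => by
      have key : ∀ u v : E k, QuadraticMap.polar (fun v : E k => half4 (wt k v.1)) u v = u.1 ⬝ᵥ v.1 := fun u v => by
        simp only [QuadraticMap.polar, Submodule.coe_add]
        rw [form_add k ((mem_E k).mp u.2).1 ((mem_E k).mp v.2).1]; ring
      rw [key, key, key, Submodule.coe_add, add_dotProduct])
    (fun a x y => by
      have key : ∀ u v : E k, QuadraticMap.polar (fun v : E k => half4 (wt k v.1)) u v = u.1 ⬝ᵥ v.1 := fun u v => by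
        simp only [QuadraticMap.polar, Submodule.coe_add]
        rw [form_add k ((mem_E k).mp u.2).1 ((mem_E k).mp v.2).1]; ring
      rw [key, key, Submodule.coe_smul, smul_dotProduct])

theorem form_apply (v : E k) : form k v = half4 (wt k v.1) := rfl

theorem polar_form (u v : E k) : polarBilin (form k) u v = u.1 ⬝ᵥ v.1 := by
  rw [QuadraticMap.polarBilin_apply_apply, QuadraticMap.polar, form_apply, form_apply, form_apply,
    Submodule.coe_add, form_add k ((mem_E k).mp u.2).1 ((mem_E k).mp v.2).1]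
  ring

theorem pair_mem {i j : Fin (4 * k + 4)} (hi : i ≠ 0) (hj : j ≠ 0) :
    (Pi.single i 1 + Pi.single j 1 : Sp k) ∈ E k := by
  rw [mem_E]
  refine ⟨?_, by simp [hi.symm, hj.symm]⟩
  simp [Finset.sum_add_distrib, CharTwo.add_self_eq_zero]

theorem form_nondegenerate : (polarBilin (form k)).Nondegenerate := by
  have hl : ∀ u : E k, (∀ v, polarBilin (form k) u v = 0) → u = 0 := by
    intro u hu
    obtain ⟨hs, h0⟩ := (mem_E k).mp u.2
    have heq : ∀ i j, i ≠ 0 → j ≠ 0 → u.1 i = u.1 j := fun i j hi hj => by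
      have := hu ⟨_, pair_mem k hi hj⟩
      rw [polar_form] at this
      simp only [dotProduct_add, dotProduct_single_one] at this
      exact CharTwo.add_eq_zero.mp this
    let one1 : Fin (4 * k + 4) := ⟨1, by omega⟩
    have hne : one1 ≠ 0 := by intro hh; exact absurd (congrArg Fin.val hh) (by simp [one1])
    have hval : ∀ i, i ≠ 0 → u.1 i = u.1 one1 := fun i hi => heq i one1 hi hne
    have hsum : ∑ i, u.1 i = ((4 * k + 3 : ℕ) : ZMod 2) * u.1 one1 := by
      rw [← Finset.add_sum_erase _ _ (Finset.mem_univ (0 : Fin (4 * k + 4))), h0, zero_add,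
        Finset.sum_congr rfl fun i hi => hval i (Finset.ne_of_mem_erase hi), Finset.sum_const,
        Finset.card_erase_of_mem (Finset.mem_univ _), Finset.card_univ, Fintype.card_fin, nsmul_eq_mul]
      rfl
    rw [hs, show ((4 * k + 3 : ℕ) : ZMod 2) = 1 from ZMod.natCast_eq_one_iff_odd.mpr ⟨2 * k + 1, by omega⟩,
      one_mul] at hsum
    refine Subtype.ext (funext fun i => ?_)
    by_cases hi : i = 0
    · rw [hi, h0]; rfl
    · rw [hval i hi, ← hsum]; rfl
  exact ⟨hl, fun v hv => hl v fun u => by rw [quad_polar_comm]; exact hv u⟩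

/-- Projection killing the value at `0`. -/
def proj0 : Sp k →ₗ[ZMod 2] Sp k :=
  LinearMap.id + (LinearMap.proj 0).smulRight (fun _ => 1)

theorem proj0_apply (v : Sp k) : proj0 k v = v + fun _ => v 0 := by
  funext i; simp [proj0]

theorem proj0_mem (v : Sp k) (hv : ∑ i, v i = 0) : proj0 k v ∈ E k := by
  rw [mem_E, proj0_apply]
  refine ⟨?_, CharTwo.add_self_eq_zero _⟩
  simp only [Pi.add_apply, Finset.sum_add_distrib, hv, zero_add, Finset.sum_const, Finset.card_univ,
    Fintype.card_fin, nsmul_eq_mul, cast_N_two, zero_mul]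

/-- The permutation action. -/
def act (g : Equiv.Perm (Fin (4 * k + 4))) : E k →ₗ[ZMod 2] E k :=
  ((proj0 k).comp ((LinearMap.funLeft (ZMod 2) (ZMod 2) ⇑g⁻¹).comp (E k).subtype)).codRestrict (E k)
    fun v => proj0_mem k _ ((Equiv.sum_comp g⁻¹ fun i => v.1 i).trans ((mem_E k).mp v.2).1)

theorem act_val (g : Equiv.Perm (Fin (4 * k + 4))) (v : E k) :
    (act k g v).1 = (v.1 ∘ ⇑g⁻¹) + fun _ => v.1 (g⁻¹ 0) := proj0_apply k _

theorem act_mul (g h : Equiv.Perm (Fin (4 * k + 4))) (v : E k) : act k (g * h) v = act k g (act k h v) := by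
  refine Subtype.ext (funext fun i => ?_)
  rw [act_val, act_val]
  simp only [Pi.add_apply, Function.comp_apply, act_val, mul_inv_rev, Equiv.Perm.mul_apply]
  have h2 := CharTwo.add_self_eq_zero (v.1 (h⁻¹ 0))
  linear_combination -h2

theorem act_one (v : E k) : act k 1 v = v := by
  refine Subtype.ext (funext fun i => ?_)
  rw [act_val]
  simp [((mem_E k).mp v.2).2]

theorem form_act (g : Equiv.Perm (Fin (4 * k + 4))) (v : E k) : form k (act k g v) = form k v := by
  rw [form_apply, act_val, half_wt_add_const k (v.1 ∘ ⇑g⁻¹)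
    ((Equiv.sum_comp g⁻¹ fun i => v.1 i).trans ((mem_E k).mp v.2).1), wt_comp]
  rfl

/-- The action as a homomorphism to the isometries. -/
def actHom : Equiv.Perm (Fin (4 * k + 4)) →* quadIsometries (form k) where
  toFun g := ⟨LinearEquiv.ofLinear (act k g) (act k g⁻¹)
      (LinearMap.ext fun v => by
        show act k g (act k g⁻¹ v) = v
        rw [← act_mul, mul_inv_cancel, act_one])
      (LinearMap.ext fun v => by
        show act k g⁻¹ (act k g v) = v
        rw [← act_mul, inv_mul_cancel, act_one]), fun v => form_act k g v⟩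
  map_one' := Subtype.ext (LinearEquiv.ext fun v => act_one k v)
  map_mul' g h := Subtype.ext (LinearEquiv.ext fun v => act_mul k g h v)

theorem actHom_injective (hk : 1 ≤ k) : Function.Injective (actHom k) := by
  rw [injective_iff_map_eq_one]
  intro g hg
  have hact : ∀ v, act k g v = v := fun v =>
    LinearEquiv.congr_fun (congrArg Subtype.val hg) v
  have key : ∀ i j, i ≠ 0 → j ≠ 0 → i ≠ j → g i = i ∨ g i = j := by
    intro i j hi hj hij
    have h := congrArg Subtype.val (hact ⟨_, pair_mem k hi hj⟩)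
    rw [act_val] at h
    obtain ⟨l, hl⟩ : ∃ l, l ∉ ({i, j, g i, g j} : Finset (Fin (4 * k + 4))) := by
      by_contra hh
      push Not at hh
      have := Finset.card_le_card (fun x (_ : x ∈ Finset.univ) => hh x)
      have h4 : ({i, j, g i, g j} : Finset (Fin (4 * k + 4))).card ≤ 4 := Finset.card_le_four
      rw [Finset.card_univ, Fintype.card_fin] at this
      omega
    simp only [Finset.mem_insert, Finset.mem_singleton, not_or] at hl
    obtain ⟨hli, hlj, hlgi, hlgj⟩ := hl
    set c := (Pi.single i 1 + Pi.single j 1 : Sp k) (g⁻¹ 0) with hc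
    have e1 : g⁻¹ l ≠ i := fun e => hlgi (by rw [← e]; simp)
    have e2 : g⁻¹ l ≠ j := fun e => hlgj (by rw [← e]; simp)
    have hc0 : c = 0 := by
      have := congrFun h l
      simp only [Pi.add_apply, Function.comp_apply, Pi.single_eq_of_ne e1, Pi.single_eq_of_ne e2,
        Pi.single_eq_of_ne hli, Pi.single_eq_of_ne hlj, add_zero, zero_add] at this
      rw [hc]; exact this
    by_contra hne
    simp only [not_or] at hne
    have := congrFun h (g i)
    simp only [Pi.add_apply, Function.comp_apply, Equiv.Perm.inv_def, Equiv.symm_apply_apply, Pi.single_eq_same,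
      Pi.single_eq_of_ne hne.1, Pi.single_eq_of_ne hne.2, Pi.single_eq_of_ne hij, add_zero] at this
    rw [hc] at hc0
    simp only [Equiv.Perm.inv_def, Pi.add_apply] at hc0
    rw [hc0, add_zero] at this
    exact one_ne_zero this
  have hfix : ∀ i, i ≠ 0 → g i = i := by
    intro i hi
    obtain ⟨j, j', hj, hj'⟩ : ∃ j j' : Fin (4 * k + 4),
        (j ≠ 0 ∧ i ≠ j) ∧ (j' ≠ 0 ∧ i ≠ j' ∧ j ≠ j') := by
      obtain ⟨j, hj⟩ : ∃ j, j ∉ ({0, i} : Finset (Fin (4 * k + 4))) := by
        by_contra hh
        push Not at hh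
        have := Finset.card_le_card (fun x (_ : x ∈ Finset.univ) => hh x)
        have h2 := Finset.card_le_two (a := (0 : Fin (4 * k + 4))) (b := i)
        rw [Finset.card_univ, Fintype.card_fin] at this
        omega
      obtain ⟨j', hj'⟩ : ∃ j', j' ∉ ({0, i, j} : Finset (Fin (4 * k + 4))) := by
        by_contra hh
        push Not at hh
        have := Finset.card_le_card (fun x (_ : x ∈ Finset.univ) => hh x)
        have h3 := Finset.card_le_three (a := (0 : Fin (4 * k + 4))) (b := i) (c := j)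
        rw [Finset.card_univ, Fintype.card_fin] at this
        omega
      simp only [Finset.mem_insert, Finset.mem_singleton, not_or] at hj hj'
      exact ⟨j, j', ⟨hj.1, Ne.symm hj.2⟩, hj'.1, Ne.symm hj'.2.1, Ne.symm hj'.2.2⟩
    rcases key i j hi hj.1 hj.2 with h | h
    · exact h
    · rcases key i j' hi hj'.1 hj'.2.1 with h' | h'
      · exact h'
      · exact absurd (h.symm.trans h') hj'.2.2
  refine Equiv.ext fun i => ?_
  by_cases hi : i = 0
  · subst hi
    by_contra h0
    exact h0 (g.injective (hfix _ h0))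
  · exact hfix i hi

theorem gauss_sum : 2 * ∑ w : E k, (if form k w = 0 then (1 : ℤ) else -1) = (-4) ^ (k + 1) := by
  classical
  have h1 : ∑ v : Sp k, gpow (wt k v) = (-4) ^ (k + 1) := by
    have hp : ∀ v : Sp k, gpow (wt k v) = ∏ i, gpow (lift4 (v i)) := fun v => by
      unfold wt
      induction (Finset.univ : Finset (Fin (4 * k + 4))) using Finset.induction_on with
      | empty => rfl
      | insert a s ha ih => rw [Finset.sum_insert ha, Finset.prod_insert ha, gpow_add, ih]
    rw [Finset.sum_congr rfl fun v _ => hp v, ← Fintype.prod_sum (fun (_ : Fin (4 * k + 4)) a => gpow (lift4 a)),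
      Finset.prod_const, Finset.card_univ, Fintype.card_fin, show 4 * k + 4 = 4 * (k + 1) by ring, pow_mul]
    congr 1
  have h2 : ∑ v : Sp k, (gpow (wt k v)).re = (-4) ^ (k + 1) := by
    have hre : ∀ s : Finset (Sp k),
        (∑ v ∈ s, gpow (wt k v)).re = ∑ v ∈ s, (gpow (wt k v)).re := fun s => by
      induction s using Finset.induction_on with
      | empty => rfl
      | insert a s ha ih => rw [Finset.sum_insert ha, Finset.sum_insert ha, Zsqrtd.re_add, ih]
    rw [← hre, h1, show ((-4 : GaussianInt) ^ (k + 1)) = (((-4 : ℤ) ^ (k + 1) : ℤ) : GaussianInt) by push_cast; rfl,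
      Zsqrtd.re_intCast]
  rw [← h2, Finset.mul_sum]
  rw [← Finset.sum_filter_add_sum_filter_not Finset.univ (fun v : Sp k => ∑ i, v i = 0),
    Finset.sum_eq_zero (s := Finset.univ.filter fun v : Sp k => ¬ ∑ i, v i = 0)
      (fun v hv => gpow_re_odd _ (by rw [red_wt]; exact (Finset.mem_filter.mp hv).2)), add_zero]
  have hmem : ∀ p : E k × ZMod 2, ∑ i, (p.1.1 + fun _ => p.2 : Sp k) i = 0 := fun p => by
    simp only [Pi.add_apply, Finset.sum_add_distrib, ((mem_E k).mp p.1.2).1, zero_add, Finset.sum_const,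
      Finset.card_univ, Fintype.card_fin, nsmul_eq_mul, cast_N_two, zero_mul]
  symm
  calc ∑ v ∈ Finset.univ.filter (fun v : Sp k => ∑ i, v i = 0), (gpow (wt k v)).re
      = ∑ p : E k × ZMod 2, (gpow (wt k (p.1.1 + fun _ => p.2))).re := by
        symm
        refine Finset.sum_bij (fun p _ => p.1.1 + fun _ => p.2)
          (fun p _ => Finset.mem_filter.mpr ⟨Finset.mem_univ _, hmem p⟩) ?_ ?_ fun p _ => rfl
        · intro p _ r _ h
          have h0 := congrFun h 0
          simp only [Pi.add_apply, ((mem_E k).mp p.1.2).2, ((mem_E k).mp r.1.2).2, zero_add] at h0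
          exact Prod.ext (Subtype.ext (by rw [h0] at h; exact add_right_cancel h)) h0
        · intro v hv
          refine ⟨(⟨proj0 k v, proj0_mem k v (Finset.mem_filter.mp hv).2⟩, v 0), Finset.mem_univ _, ?_⟩
          funext i
          simp [proj0_apply, add_assoc, CharTwo.add_self_eq_zero]
    _ = ∑ w : E k, 2 * (if form k w = 0 then (1 : ℤ) else -1) := by
        rw [Fintype.sum_prod_type]
        refine Finset.sum_congr rfl fun w _ => ?_
        have hc : ∀ c : ZMod 2, (gpow (wt k (w.1 + fun _ => c))).re = if form k w = 0 then 1 else -1 := fun c => by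
          rw [gpow_re_even _ (by rw [red_wt]; exact hmem (w, c)), half_wt_add_const k _ ((mem_E k).mp w.2).1]
          rfl
        simp only [hc, Finset.sum_const, Finset.card_univ, ZMod.card, nsmul_eq_mul]
        rfl

theorem zeroCount_form :
    4 * (Nat.card {w : E k // form k w = 0} : ℤ) - 2 * 2 ^ (4 * k + 2) = (-4) ^ (k + 1) := by
  classical
  have h := gauss_sum k
  have hc : Fintype.card (E k) = 2 ^ (4 * k + 2) := by
    rw [Module.card_eq_pow_finrank (K := ZMod 2), finrank_E, ZMod.card]
  have hsplit : ∀ w : E k, (if form k w = 0 then (1 : ℤ) else -1) = 2 * (if form k w = 0 then 1 else 0) - 1 :=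
    fun w => by split_ifs <;> norm_num
  rw [Finset.sum_congr rfl fun w _ => hsplit w, Finset.sum_sub_distrib, ← Finset.mul_sum, Finset.sum_boole,
    Finset.sum_const, Finset.card_univ, hc] at h
  rw [Nat.card_eq_fintype_card, Fintype.card_subtype]
  push_cast at h ⊢
  rw [← h]
  simp
  ring

theorem plus_or_minus (hk : 1 ≤ k) :
    (Odd k → ∃ e : E k ≃ₗ[ZMod 2] (Fin (2 * k + 1) ⊕ Fin (2 * k + 1) → ZMod 2),
      ∀ v, form k v = Cfsg.quadFormPlus (2 * k + 1) (ZMod 2) (e v)) ∧
    (Even k → ∃ e : E k ≃ₗ[ZMod 2] ((Fin (2 * k) ⊕ Fin (2 * k)) ⊕ Fin 2 → ZMod 2),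
      ∀ v, form k v = Cfsg.quadFormMinus (2 * k) (ZMod 2) 1 1 (e v)) := by
  classical
  have hz := zeroCount_form k
  have hp := plus_or_minus_two (form k) (form_nondegenerate k) (m := 2 * k + 1) (by omega)
    (by rw [finrank_E]; omega)
  rw [show 2 * k + 1 - 1 = 2 * k by omega] at hp
  have hP := zeroCount_plus_two (m := 2 * k + 1) (by omega)
  have hM := zeroCount_minus_two (2 * k)
  rw [show 2 * (2 * k + 1) - 1 = 4 * k + 1 by omega, show 2 * k + 1 - 1 = 2 * k by omega] at hP
  rw [show 2 * (2 * k) + 1 = 4 * k + 1 by ring] at hM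
  have h4 : (4 : ℤ) ^ (k + 1) = 4 * 2 ^ (2 * k) := by
    rw [show (4 : ℤ) = 2 ^ 2 by norm_num, ← pow_mul, ← pow_add]; ring_nf
  have h2 : (2 : ℤ) * 2 ^ (4 * k + 2) = 4 * 2 ^ (4 * k + 1) := by ring
  have hpos : (0 : ℤ) < 2 ^ (2 * k) := by positivity
  refine ⟨fun ho => ?_, fun he => ?_⟩
  · rcases hp with h | ⟨e, he⟩
    · exact h
    · exfalso
      rw [Nat.card_congr (e.toEquiv.subtypeEquiv (q := fun v => Cfsg.quadFormMinus (2 * k) (ZMod 2) 1 1 v = 0)
        fun v => by rw [he]; rfl)] at hz
      have hM' := congrArg (Nat.cast : ℕ → ℤ) hM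
      push_cast at hM'
      rw [Even.neg_pow (by obtain ⟨j, rfl⟩ := ho; exact ⟨j + 1, by ring⟩), h4, h2] at hz
      linarith
  · rcases hp with ⟨e, he'⟩ | h
    · exfalso
      rw [Nat.card_congr (e.toEquiv.subtypeEquiv (q := fun v => Cfsg.quadFormPlus (2 * k + 1) (ZMod 2) v = 0)
        fun v => by rw [he']; rfl), hP] at hz
      push_cast at hz
      rw [Odd.neg_pow (by obtain ⟨j, rfl⟩ := he; exact ⟨j, by ring⟩), h4, h2] at hz
      linarith
    · exact h

/-- The embedding into the isometry group of a coordinate form equivalent to `form k`. -/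
theorem exists_embedding (hk : 1 ≤ k) {ι : Type} [Fintype ι] [DecidableEq ι] (Q : QuadraticForm (ZMod 2) (ι → ZMod 2))
    (e : E k ≃ₗ[ZMod 2] (ι → ZMod 2)) (he : ∀ v, form k v = Q (e v)) :
    ∃ φ : Equiv.Perm (Fin (4 * k + 4)) →* Cfsg.isometryGroup (ZMod 2) (⇑Q), Function.Injective φ := by
  let c : quadIsometries (form k) →* quadIsometries Q :=
    { toFun := fun g => ⟨e.symm.trans ((g : E k ≃ₗ[ZMod 2] E k).trans e), fun v => by
        show Q (e ((g : E k ≃ₗ[ZMod 2] E k) (e.symm v))) = Q v
        rw [← he, g.2, he, e.apply_symm_apply]⟩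
      map_one' := Subtype.ext (LinearEquiv.ext fun v => e.apply_symm_apply v)
      map_mul' := fun g h => Subtype.ext (LinearEquiv.ext fun v => by
        show e ((g : E k ≃ₗ[ZMod 2] E k) ((h : E k ≃ₗ[ZMod 2] E k) (e.symm v))) =
          e ((g : E k ≃ₗ[ZMod 2] E k) (e.symm (e ((h : E k ≃ₗ[ZMod 2] E k) (e.symm v)))))
        rw [e.symm_apply_apply]) }
  have hc : Function.Injective c := fun g h hgh => Subtype.ext (LinearEquiv.ext fun v => e.injective (by
    have := LinearEquiv.congr_fun (congrArg Subtype.val hgh) (e v)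
    simpa [c] using this))
  exact ⟨(isometryEquiv Q).symm.toMonoidHom.comp (c.comp (actHom k)),
    (isometryEquiv Q).symm.injective.comp (hc.comp (actHom_injective k hk))⟩

end EvenSubsets

end Cfsg.Agent.Lib.QuadFin
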