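import Mathlib.GroupTheory.Perm.ViaEmbedding
import Mathlib.GroupTheory.Perm.Cycle.Type
import Cfsg.Agent.Lib.Classical.PSLFourTwo

/-!
`GL₄(2) ≅ A₈`, and small facts about `A₇` and the action on the non-zero vectors.
-/

set_option autoImplicit false

namespace Cfsg.Agent.Lib.QuadFin

variable {F : Type*} [Field F] [Fintype F]

theorem units_eq_one_of_card_two (hF : Fintype.card F = 2) (u : Fˣ) : u = 1 := by
  classical
  have h : Fintype.card Fˣ = 1 := by rw [Fintype.card_units, hF]
  exact (Fintype.card_eq_one_iff.mp h).elim fun a ha => (ha u).trans (ha 1).symm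

theorem nonempty_GL4_two (hF : Fintype.card F = 2) :
    Nonempty (Matrix.GeneralLinearGroup (Fin 4) F ≃* alternatingGroup (Fin 8)) := by
  classical
  obtain ⟨e⟩ := Cfsg.Agent.Lib.Classical.nonempty_PSL4_two hF
  have hsurj : Function.Surjective (Matrix.SpecialLinearGroup.toGL : Matrix.SpecialLinearGroup (Fin 4) F →* _) :=
    fun g => ⟨⟨g.1, congrArg Units.val (units_eq_one_of_card_two hF (Matrix.GeneralLinearGroup.det g))⟩,
      Units.ext rfl⟩
  have hinj : Function.Injective (Matrix.SpecialLinearGroup.toGL : Matrix.SpecialLinearGroup (Fin 4) F →* _) :=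
    fun a b h => Subtype.ext (congrArg Units.val h)
  let e₁ := MulEquiv.ofBijective _ (⟨hinj, hsurj⟩ :
    Function.Bijective (Matrix.SpecialLinearGroup.toGL : Matrix.SpecialLinearGroup (Fin 4) F →* _))
  have hcen : Subgroup.center (Matrix.SpecialLinearGroup (Fin 4) F) = ⊥ := by
    rw [eq_bot_iff]
    intro z hz
    obtain ⟨r, hr, hrz⟩ := Matrix.SpecialLinearGroup.mem_center_iff.mp hz
    rw [Fintype.card_fin] at hr
    have hr0 : r ≠ 0 := fun h0 => by rw [h0] at hr; simp at hr
    have hr1 : r = 1 := congrArg Units.val (units_eq_one_of_card_two hF (Units.mk0 r hr0))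
    exact Subgroup.mem_bot.mpr (Subtype.ext (by rw [← hrz, hr1]; simp))
  let π := QuotientGroup.mk' (Subgroup.center (Matrix.SpecialLinearGroup (Fin 4) F))
  have hπ : Function.Bijective π :=
    ⟨by rw [← MonoidHom.ker_eq_bot_iff, QuotientGroup.ker_mk', hcen], QuotientGroup.mk'_surjective _⟩
  exact ⟨(e₁.symm.trans (MulEquiv.ofBijective π hπ)).trans e⟩

/-- `A₇` has no element of order fifteen. -/
theorem perm_seven_no_fifteen (σ : Equiv.Perm (Fin 7)) : orderOf σ ≠ 15 := by
  intro h
  have hl : σ.cycleType.lcm = 15 := by rw [Equiv.Perm.lcm_cycleType, h]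
  have hsum : σ.cycleType.sum ≤ 7 := by
    rw [Equiv.Perm.sum_cycleType]
    exact (Finset.card_le_univ _).trans (Fintype.card_fin 7).le
  have hmem : ∀ a ∈ σ.cycleType, a = 3 ∨ a = 5 := by
    intro a ha
    have h2 := Equiv.Perm.two_le_of_mem_cycleType ha
    have h7 : a ≤ 7 := (Multiset.le_sum_of_mem ha).trans hsum
    have hd : a ∣ 15 := hl ▸ Multiset.dvd_lcm ha
    interval_cases a <;> omega
  by_cases h3 : 3 ∈ σ.cycleType
  · by_cases h5 : 5 ∈ σ.cycleType
    · obtain ⟨s, hs⟩ := Multiset.exists_cons_of_mem h3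
      rw [hs] at h5 hsum
      have h5' : 5 ∈ s := by simpa using h5
      have := Multiset.le_sum_of_mem h5'
      rw [Multiset.sum_cons] at hsum
      omega
    · have : σ.cycleType.lcm ∣ 3 := Multiset.lcm_dvd.mpr fun a ha => by
        rcases hmem a ha with rfl | rfl
        · rfl
        · exact absurd ha h5
      rw [hl] at this; norm_num at this
  · have : σ.cycleType.lcm ∣ 5 := Multiset.lcm_dvd.mpr fun a ha => by
      rcases hmem a ha with rfl | rfl
      · exact absurd ha h3
      · rfl
    rw [hl] at this; norm_num at this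

/-- `A₇` embeds in `A₈`. -/
theorem exists_altSeven_to_altEight :
    ∃ f : alternatingGroup (Fin 7) →* alternatingGroup (Fin 8), Function.Injective f := by
  let ι : Fin 7 ↪ Fin 8 := Fin.castSuccEmb
  refine ⟨((Equiv.Perm.viaEmbeddingHom ι).comp (alternatingGroup (Fin 7)).subtype).codRestrict _ fun σ => ?_,
    fun a b h => Subtype.ext (Equiv.Perm.viaEmbeddingHom_injective ι (congrArg Subtype.val h))⟩
  rw [Equiv.Perm.mem_alternatingGroup]
  show Equiv.Perm.sign (Equiv.Perm.viaEmbedding (σ : Equiv.Perm (Fin 7)) ι) = 1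
  unfold Equiv.Perm.viaEmbedding
  rw [Equiv.Perm.sign_extendDomain]
  exact σ.2

end Cfsg.Agent.Lib.QuadFin
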