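import Mathlib.LinearAlgebra.Matrix.Transvection
import Cfsg.Agent.Lib.QuadFin.SpinorApps

/-!
The Levi subgroup `diag(A, A⁻ᵀ)` and the pair-swapping isometry of the hyperbolic space.
-/

set_option autoImplicit false
set_option maxHeartbeats 800000

namespace Cfsg.Agent.Lib.QuadFin

open Matrix
open QuadraticMap (polarBilin)
open Module (finrank)
open Cfsg.Agent.Lib.Geometry

attribute [-simp] QuadraticMap.polarBilin_apply_apply

variable {F : Type*} [Field F] {m : ℕ}

/-- The hyperbolic form. -/
abbrev hypQ (m : ℕ) (F : Type*) [Field F] : QuadraticForm F (Fin m ⊕ Fin m → F) :=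
  matQuad (plusMatrix m F)

theorem hypQ_nondegenerate (m : ℕ) (F : Type*) [Field F] :
    (polarBilin (hypQ m F)).Nondegenerate :=
  polarBilin_matQuad_nondegenerate (by
    rw [det_plusGram]; exact pow_ne_zero _ (neg_ne_zero.mpr one_ne_zero))

theorem hypQ_elim (x y : Fin m → F) : hypQ m F (Sum.elim x y) = x ⬝ᵥ y := by
  rw [← congrFun (quadFormPlus_eq m) (Sum.elim x y)]
  rfl

theorem hypQ_polar (a b c d : Fin m → F) :
    polarBilin (hypQ m F) (Sum.elim a b) (Sum.elim c d) = a ⬝ᵥ d + c ⬝ᵥ b := by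
  have h : (Sum.elim a b : Fin m ⊕ Fin m → F) + Sum.elim c d = Sum.elim (a + c) (b + d) := by
    funext k; cases k <;> rfl
  have hq := quad_add (hypQ m F) (Sum.elim a b) (Sum.elim c d)
  rw [h, hypQ_elim, hypQ_elim, hypQ_elim, add_dotProduct, dotProduct_add, dotProduct_add] at hq
  linear_combination -hq

/-- The Levi element attached to `A`. -/
def leviMat (A : GL (Fin m) F) : Matrix (Fin m ⊕ Fin m) (Fin m ⊕ Fin m) F :=
  Matrix.fromBlocks (A : Matrix (Fin m) (Fin m) F) 0 0 ((A⁻¹ : GL (Fin m) F) : Matrix (Fin m) (Fin m) F)ᵀ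

theorem leviMat_mul (A B : GL (Fin m) F) : leviMat (A * B) = leviMat A * leviMat B := by
  simp [leviMat, Matrix.fromBlocks_multiply, _root_.mul_inv_rev, Matrix.transpose_mul]

theorem leviMat_one : leviMat (1 : GL (Fin m) F) = 1 := by
  simp [leviMat, Matrix.fromBlocks_one]

theorem leviMat_mulVec (A : GL (Fin m) F) (x y : Fin m → F) :
    leviMat A *ᵥ Sum.elim x y = Sum.elim ((A : Matrix (Fin m) (Fin m) F) *ᵥ x)
      (((A⁻¹ : GL (Fin m) F) : Matrix (Fin m) (Fin m) F)ᵀ *ᵥ y) := by
  simp [leviMat, Matrix.fromBlocks_mulVec]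

/-- The Levi embedding. -/
def leviHom : GL (Fin m) F →* Cfsg.isometryGroup F (⇑(hypQ m F)) where
  toFun A := ⟨⟨leviMat A, leviMat A⁻¹, by rw [← leviMat_mul, mul_inv_cancel, leviMat_one],
      by rw [← leviMat_mul, inv_mul_cancel, leviMat_one]⟩,
    mem_isometryGroup_iff.mpr fun v => by
      obtain ⟨x, y, rfl⟩ : ∃ x y, v = Sum.elim x y :=
        ⟨v ∘ Sum.inl, v ∘ Sum.inr, (Sum.elim_comp_inl_inr v).symm⟩
      show hypQ m F (leviMat A *ᵥ Sum.elim x y) = _
      rw [leviMat_mulVec, hypQ_elim, hypQ_elim, Matrix.dotProduct_mulVec, Matrix.vecMul_transpose,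
        Matrix.mulVec_mulVec, Units.inv_mul, Matrix.one_mulVec]⟩
  map_one' := Subtype.ext (Units.ext leviMat_one)
  map_mul' A B := Subtype.ext (Units.ext (leviMat_mul A B))

theorem oneSub_leviHom (A : GL (Fin m) F) (x y : Fin m → F) :
    oneSub (hypQ m F) (isometryEquiv (hypQ m F) (leviHom A)) (Sum.elim x y) =
      Sum.elim ((1 - (A : Matrix (Fin m) (Fin m) F)) *ᵥ x)
        ((1 - ((A⁻¹ : GL (Fin m) F) : Matrix (Fin m) (Fin m) F)ᵀ) *ᵥ y) := by
  rw [oneSub_apply, isometryEquiv_apply]
  show Sum.elim x y - leviMat A *ᵥ Sum.elim x y = _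
  rw [leviMat_mulVec, Matrix.sub_mulVec, Matrix.sub_mulVec, Matrix.one_mulVec, Matrix.one_mulVec]
  funext k; cases k <;> rfl

theorem finrank_submodule_prod {V W : Type*} [AddCommGroup V] [Module F V] [AddCommGroup W] [Module F W]
    [FiniteDimensional F V] [FiniteDimensional F W] (p : Submodule F V) (q : Submodule F W) :
    finrank F ↥(p.prod q) = finrank F p + finrank F q := by
  let e : ↥(p.prod q) ≃ₗ[F] ↥p × ↥q :=
    { toFun := fun x => (⟨x.1.1, x.2.1⟩, ⟨x.1.2, x.2.2⟩)
      map_add' := fun _ _ => rfl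
      map_smul' := fun _ _ => rfl
      invFun := fun x => ⟨(x.1.1, x.2.1), x.1.2, x.2.2⟩
      left_inv := fun _ => rfl
      right_inv := fun _ => rfl }
  rw [e.finrank_eq, Module.finrank_prod]

theorem dickson_leviHom (A : GL (Fin m) F) :
    dickson (hypQ m F) (isometryEquiv (hypQ m F) (leviHom A)) = 1 := by
  classical
  set f := (1 - (A : Matrix (Fin m) (Fin m) F)).mulVecLin with hf
  set g := (1 - ((A⁻¹ : GL (Fin m) F) : Matrix (Fin m) (Fin m) F)ᵀ).mulVecLin with hg
  let e := LinearEquiv.sumArrowLequivProdArrow (Fin m) (Fin m) F F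
  have hone : oneSub (hypQ m F) (isometryEquiv (hypQ m F) (leviHom A)) =
      e.symm.toLinearMap ∘ₗ (f.prodMap g) ∘ₗ e.toLinearMap := by
    refine LinearMap.ext fun v => ?_
    conv_lhs => rw [← Sum.elim_comp_inl_inr v, oneSub_leviHom]
    funext k; cases k <;> rfl
  have hrg : finrank F (LinearMap.range g) = finrank F (LinearMap.range f) := by
    show (1 - ((A⁻¹ : GL (Fin m) F) : Matrix (Fin m) (Fin m) F)ᵀ).rank =
      (1 - (A : Matrix (Fin m) (Fin m) F)).rank
    have hu : IsUnit ((A⁻¹ : GL (Fin m) F) : Matrix (Fin m) (Fin m) F).det :=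
      Matrix.isUnits_det_units _
    have he : 1 - ((A⁻¹ : GL (Fin m) F) : Matrix (Fin m) (Fin m) F)ᵀ =
        (-(((A⁻¹ : GL (Fin m) F) : Matrix (Fin m) (Fin m) F) *
          (1 - (A : Matrix (Fin m) (Fin m) F))))ᵀ := by
      rw [← Matrix.transpose_one, ← Matrix.transpose_sub, Matrix.transpose_one]
      congr 1
      rw [mul_sub, mul_one, Units.inv_mul]
      abel
    rw [he, Matrix.rank_transpose, ← neg_mul, Matrix.rank_mul_eq_right_of_isUnit_det _ _ (by rw [Matrix.det_neg]; exact ((isUnit_one.neg).pow _).mul hu)]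
  have hfin : finrank F (movedSpace (hypQ m F) (isometryEquiv (hypQ m F) (leviHom A))) =
      2 * finrank F (LinearMap.range f) := by
    rw [movedSpace, hone, LinearMap.range_comp, LinearMap.range_comp, LinearEquiv.range,
      Submodule.map_top, LinearEquiv.finrank_map_eq, LinearMap.range_prodMap,
      finrank_submodule_prod, hrg, two_mul]
  rw [dickson, hfin, pow_mul, neg_one_sq, one_pow]

/-- The hyperbolic spinor character of the Levi subgroup. -/
theorem spinor_leviHom [Finite F] (h2 : (2 : F) ≠ 0) (A : GL (Fin m) F) :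
    spinor (hypQ m F) (isometryEquiv (hypQ m F) (leviHom A)) =
      sqClass (A : Matrix (Fin m) (Fin m) F).det := by
  classical
  let Q := hypQ m F
  have hQ := hypQ_nondegenerate m F
  let ψ : GL (Fin m) F →* ℤˣ := (spinorHom Q hQ (closure_refl_eq_top Q hQ (two_ne_zero_exc h2))).comp
    ((isometryEquiv Q).toMonoidHom.comp leviHom)
  show ψ A = _
  have hone' : ∀ B : GL (Fin m) F, (B : Matrix (Fin m) (Fin m) F) = 1 → ψ B = 1 := fun B h => by
    rw [show B = 1 from Units.ext h, map_one]
  have hdiag1 : ∀ (k : Fin m) (t : F), t ≠ 0 → ∀ B : GL (Fin m) F,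
      (B : Matrix (Fin m) (Fin m) F) = Matrix.diagonal (Function.update 1 k t) → ψ B = sqClass t := by
    intro k t ht B hB
    by_cases ht1 : t = 1
    · rw [ht1] at hB ⊢
      rw [hone' B (by rw [hB, show Function.update (1 : Fin m → F) k 1 = fun _ => 1 from Function.update_eq_self k 1]; exact Matrix.diagonal_one),
        sqClass_eq_one_iff.mpr IsSquare.one]
    · have hBi : ((B⁻¹ : GL (Fin m) F) : Matrix (Fin m) (Fin m) F) =
          Matrix.diagonal (Function.update 1 k t⁻¹) := by
        rw [Matrix.coe_units_inv]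
        refine Matrix.inv_eq_right_inv ?_
        rw [hB, Matrix.diagonal_mul_diagonal, ← Matrix.diagonal_one]
        congr 1; funext j
        by_cases hj : j = k
        · subst hj; simp [ht]
        · simp [hj]
      have hsub : ∀ (s : F) (x : Fin m → F),
          (1 - Matrix.diagonal (Function.update (1 : Fin m → F) k s)) *ᵥ x =
            ((1 - s) * x k) • Pi.single k 1 := by
        intro s x; funext j
        rw [Matrix.sub_mulVec, Matrix.one_mulVec, Pi.sub_apply, Matrix.mulVec_diagonal]
        by_cases hj : j = k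
        · subst hj; simp [sub_mul]
        · simp [hj]
      let a : Fin 2 → (Fin m ⊕ Fin m → F) :=
        ![Sum.elim (Pi.single k 1) 0, Sum.elim 0 (Pi.single k 1)]
      have ho : ∀ x y, oneSub Q (isometryEquiv Q (leviHom B)) (Sum.elim x y) =
          ((1 - t) * x k) • a 0 + ((1 - t⁻¹) * y k) • a 1 := by
        intro x y
        rw [oneSub_leviHom, hB, hBi, Matrix.diagonal_transpose, hsub, hsub]
        funext j; cases j <;> simp [a, Pi.single_apply]
      have hs : (1 : F) - t ≠ 0 := sub_ne_zero.mpr (Ne.symm ht1)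
      have hs' : (1 : F) - t⁻¹ ≠ 0 := sub_ne_zero.mpr fun h => ht1 (inv_eq_one.mp h.symm)
      have ha0 : oneSub Q (isometryEquiv Q (leviHom B)) (a 0) = (1 - t) • a 0 := by
        show oneSub Q _ (Sum.elim (Pi.single k 1) 0) = _
        rw [ho]; simp
      have ha1 : oneSub Q (isometryEquiv Q (leviHom B)) (a 1) = (1 - t⁻¹) • a 1 := by
        show oneSub Q _ (Sum.elim 0 (Pi.single k 1)) = _
        rw [ho]; simp
      obtain ⟨-, hS⟩ := invariants_of_frame Q hQ (isometryEquiv Q (leviHom B)) a
        (by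
          rw [show (fun i => oneSub Q (isometryEquiv Q (leviHom B)) (a i)) =
              ![(1 - t) • a 0, (1 - t⁻¹) • a 1] from funext fun i => by
            fin_cases i
            · exact ha0
            · exact ha1, LinearIndependent.pair_iff]
          intro c d hcd
          have e0 := congrFun hcd (Sum.inl k)
          have e1 := congrFun hcd (Sum.inr k)
          simp [a] at e0 e1
          exact ⟨e0.resolve_right hs, e1.resolve_right hs'⟩)
        (fun v => by
          rw [← Sum.elim_comp_inl_inr v, ho]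
          refine Submodule.add_mem _ ?_ ?_
          · rw [mul_comm, mul_smul, ← ha0]
            exact Submodule.smul_mem _ _ (Submodule.subset_span ⟨0, rfl⟩)
          · rw [mul_comm, mul_smul, ← ha1]
            exact Submodule.smul_mem _ _ (Submodule.subset_span ⟨1, rfl⟩))
      show spinor Q (isometryEquiv Q (leviHom B)) = _
      rw [hS]
      have hd : (Matrix.of fun i j => polarBilin Q
          (oneSub Q (isometryEquiv Q (leviHom B)) (a i)) (a j)).det = (1 - t) ^ 2 * t⁻¹ := by
        rw [Matrix.det_fin_two]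
        simp only [Matrix.of_apply, ha0, ha1, map_smul, LinearMap.smul_apply, smul_eq_mul]
        have p : ∀ i j : Fin 2, polarBilin Q (a i) (a j) = if i = j then 0 else 1 := by
          intro i j
          fin_cases i <;> fin_cases j <;>
            (show polarBilin Q (Sum.elim _ _) (Sum.elim _ _) = _) <;> rw [hypQ_polar] <;> simp
        simp [p]
        field_simp
        ring
      rw [hd, pow_two, sqClass_sq_mul _ hs, sqClass_inv]
  refine Matrix.diagonal_transvection_induction_of_det_ne_zero
    (fun M => ∀ B : GL (Fin m) F, (B : Matrix (Fin m) (Fin m) F) = M → ψ B = sqClass M.det)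
    (A : Matrix (Fin m) (Fin m) F) (Matrix.isUnits_det_units A).ne_zero ?_ ?_ ?_ A rfl
  · intro D hD B hB
    have hD' : ∀ k, D k ≠ 0 := fun k h => hD (by
      rw [Matrix.det_diagonal]; exact Finset.prod_eq_zero (Finset.mem_univ k) h)
    let δ : (Fin m → Fˣ) →* GL (Fin m) F :=
      (Units.map (Matrix.diagonalRingHom (Fin m) F).toMonoidHom).comp MulEquiv.piUnits.symm.toMonoidHom
    have hδ : ∀ u : Fin m → Fˣ,
        (δ u : Matrix (Fin m) (Fin m) F) = Matrix.diagonal fun k => (u k : F) := fun u => rfl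
    let u : Fin m → Fˣ := fun k => Units.mk0 (D k) (hD' k)
    have hBu : B = δ u := Units.ext (by rw [hB, hδ]; rfl)
    have hgen : ∀ w : Fin m → Fˣ, ψ (δ w) = ∏ k, ψ (δ (Pi.mulSingle k (w k))) := fun w => by
      conv_lhs => rw [← Finset.univ_prod_mulSingle w]
      exact map_prod (ψ.comp δ) _ _
    have hk : ∀ k, ψ (δ (Pi.mulSingle k (u k))) = sqClass (D k) := fun k => by
      refine hdiag1 k (D k) (hD' k) _ ?_
      rw [hδ]; congr 1; funext j
      by_cases hj : j = k
      · subst hj; simp [u]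
      · simp [hj]
    rw [hBu, hgen, Finset.prod_congr rfl fun k _ => hk k, Matrix.det_diagonal]
    refine Finset.induction_on (Finset.univ : Finset (Fin m)) ?_ ?_
    · simp [sqClass_eq_one_iff.mpr (IsSquare.one : IsSquare (1 : F))]
    · intro k s hks ih
      rw [Finset.prod_insert hks, Finset.prod_insert hks,
        sqClass_mul (hD' k) (Finset.prod_ne_zero_iff.mpr fun j _ => hD' j), ih]
  · intro t B hB
    rw [t.det, sqClass_eq_one_iff.mpr IsSquare.one]
    let T : GL (Fin m) F := ⟨Matrix.transvection t.i t.j (t.c / 2),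
      Matrix.transvection t.i t.j (-(t.c / 2)),
      by rw [Matrix.transvection_mul_transvection_same (i := t.i) (j := t.j) t.hij, add_neg_cancel, Matrix.transvection_zero],
      by rw [Matrix.transvection_mul_transvection_same (i := t.i) (j := t.j) t.hij, neg_add_cancel, Matrix.transvection_zero]⟩
    have hTT : B = T * T := Units.ext (by
      rw [hB, Units.val_mul]
      show Matrix.transvection t.i t.j t.c = _
      rw [show (T : Matrix (Fin m) (Fin m) F) = Matrix.transvection t.i t.j (t.c / 2) from rfl,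
        Matrix.transvection_mul_transvection_same (i := t.i) (j := t.j) t.hij]
      congr 1
      field_simp
      ring)
    rw [hTT, map_mul, Int.units_mul_self]
  · intro M N hM hN hPM hPN B hB
    let M' : GL (Fin m) F := Matrix.GeneralLinearGroup.mkOfDetNeZero M hM
    let N' : GL (Fin m) F := Matrix.GeneralLinearGroup.mkOfDetNeZero N hN
    have hMN : B = M' * N' := Units.ext (by rw [hB]; rfl)
    rw [hMN, map_mul, hPM M' rfl, hPN N' rfl, Matrix.det_mul, sqClass_mul hM hN]

/-- The element exchanging the two Lagrangians. -/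
def swapIso (m : ℕ) (F : Type*) [Field F] : Cfsg.isometryGroup F (⇑(hypQ m F)) :=
  ⟨⟨Matrix.fromBlocks 0 1 1 0, Matrix.fromBlocks 0 1 1 0,
      by simp [Matrix.fromBlocks_multiply, Matrix.fromBlocks_one],
      by simp [Matrix.fromBlocks_multiply, Matrix.fromBlocks_one]⟩,
    mem_isometryGroup_iff.mpr fun v => by
      obtain ⟨x, y, rfl⟩ : ∃ x y, v = Sum.elim x y :=
        ⟨v ∘ Sum.inl, v ∘ Sum.inr, (Sum.elim_comp_inl_inr v).symm⟩
      show hypQ m F (Matrix.fromBlocks 0 1 1 0 *ᵥ Sum.elim x y) = _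
      rw [show Matrix.fromBlocks (0 : Matrix (Fin m) (Fin m) F) 1 1 0 *ᵥ Sum.elim x y = Sum.elim y x by
        simp [Matrix.fromBlocks_mulVec], hypQ_elim, hypQ_elim, dotProduct_comm]⟩

theorem invariants_swapIso (m : ℕ) (F : Type*) [Field F] :
    dickson (hypQ m F) (isometryEquiv (hypQ m F) (swapIso m F)) = (-1) ^ m ∧
      spinor (hypQ m F) (isometryEquiv (hypQ m F) (swapIso m F)) = sqClass ((-1 : F) ^ m) := by
  classical
  have hone : ∀ x y : Fin m → F, oneSub (hypQ m F) (isometryEquiv (hypQ m F) (swapIso m F))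
      (Sum.elim x y) = Sum.elim (x - y) (y - x) := fun x y => by
    rw [oneSub_apply, isometryEquiv_apply]
    show Sum.elim x y - Matrix.fromBlocks (0 : Matrix (Fin m) (Fin m) F) 1 1 0 *ᵥ Sum.elim x y = _
    rw [show Matrix.fromBlocks (0 : Matrix (Fin m) (Fin m) F) 1 1 0 *ᵥ Sum.elim x y = Sum.elim y x by
      simp [Matrix.fromBlocks_mulVec]]
    funext k; cases k <;> rfl
  obtain ⟨hD, hS⟩ := invariants_of_frame (hypQ m F) (hypQ_nondegenerate m F)
    (isometryEquiv (hypQ m F) (swapIso m F))
    (fun i : Fin m => Sum.elim (Pi.single i 1) 0)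
    (by
      simp only [hone, sub_zero, zero_sub]
      refine linearIndependent_iff'.mpr fun s c hc i hi => ?_
      have := congrFun hc (Sum.inl i)
      simpa [Finset.sum_apply, Pi.single_apply, hi] using this)
    (fun v => by
      rw [← Sum.elim_comp_inl_inr v, hone]
      have : Sum.elim (v ∘ Sum.inl - v ∘ Sum.inr) (v ∘ Sum.inr - v ∘ Sum.inl) =
          ∑ i : Fin m, (v (Sum.inl i) - v (Sum.inr i)) •
            oneSub (hypQ m F) (isometryEquiv (hypQ m F) (swapIso m F))
              (Sum.elim (Pi.single i 1) 0) := by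
        simp only [hone, sub_zero, zero_sub]
        funext k
        cases k <;> simp [Finset.sum_apply, Pi.single_apply]
      rw [this]
      exact Submodule.sum_mem _ fun i _ => Submodule.smul_mem _ _ (Submodule.subset_span ⟨i, rfl⟩))
  refine ⟨by rw [hD, Fintype.card_fin], ?_⟩
  rw [hS]
  congr 1
  have e : (Matrix.of fun i j : Fin m => polarBilin (hypQ m F)
      (oneSub (hypQ m F) (isometryEquiv (hypQ m F) (swapIso m F)) (Sum.elim (Pi.single i 1) 0))
      (Sum.elim (Pi.single j 1) 0)) = -(1 : Matrix (Fin m) (Fin m) F) := by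
    ext i j
    rw [Matrix.of_apply, hone, sub_zero, zero_sub, hypQ_polar]
    simp [Matrix.one_apply, Pi.single_apply, eq_comm]
  rw [e, Matrix.det_neg, Matrix.det_one, Fintype.card_fin, mul_one]

end Cfsg.Agent.Lib.QuadFin
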