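import Cfsg.Agent.Lib.QuadFin.SpinorApps

/-!
The involution negating some hyperbolic pairs.
-/

set_option autoImplicit false

namespace Cfsg.Agent.Lib.QuadFin

open Matrix
open QuadraticMap (polarBilin)
open Cfsg.Agent.Lib.Geometry

attribute [-simp] QuadraticMap.polarBilin_apply_apply

variable {F : Type*} [Field F] [Fintype F]

theorem plusGram_castLE {i m : ℕ} (h : i ≤ m) (a b : Fin i ⊕ Fin i) :
    (plusMatrix m F) (a.map (Fin.castLE h) (Fin.castLE h)) (b.map (Fin.castLE h) (Fin.castLE h)) =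
      (plusMatrix i F) a b := by
  rcases a with a | a <;> rcases b with b | b <;>
    simp [plusMatrix, Matrix.one_apply, Fin.ext_iff]

/-- An involution negating `i` hyperbolic pairs lies in `Ω` iff `q^i ≡ 1 (mod 4)`. -/
theorem pair_involution {ι : Type} [Fintype ι] [DecidableEq ι] (Q : QuadraticForm F (ι → F))
    (hQ : (polarBilin Q).Nondegenerate) (hodd : Odd (Fintype.card F)) (hn : 2 ≤ Fintype.card ι)
    (s : ι → Prop) [DecidablePred s] {i : ℕ} (f : Fin i ⊕ Fin i → ι) (hf : Function.Injective f)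
    (hfs : ∀ a, s (f a)) (hsurj : ∀ k, s k → ∃ a, f a = k)
    (hgram : ∀ a b, polarBilin Q (Pi.single (f a) 1) (Pi.single (f b) 1) =
      plusMatrix i F a b + plusMatrix i F b a)
    (hs : ∀ k l, s k → ¬ s l → polarBilin Q (Pi.single k 1) (Pi.single l 1) = 0) :
    (∃ g : Cfsg.isometryGroup F (⇑Q), g ∈ Cfsg.Omega F (⇑Q) ∧
      ((g : Matrix.GeneralLinearGroup ι F) : Matrix ι ι F) =
        Matrix.diagonal fun k => if s k then (-1 : F) else 1) ↔ Fintype.card F ^ i % 4 = 1 := by
  classical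
  have h2 := two_ne_zero_of_odd_card hodd
  let e : Fin i ⊕ Fin i ≃ {k // s k} := Equiv.ofBijective (fun a => ⟨f a, hfs a⟩)
    ⟨fun a b h => hf (congrArg Subtype.val h), fun k => by
      obtain ⟨a, ha⟩ := hsurj k.1 k.2
      exact ⟨a, Subtype.ext ha⟩⟩
  have hcard : Fintype.card {k // s k} = i + i := by
    rw [← Fintype.card_congr e, Fintype.card_sum, Fintype.card_fin]
  have hdet : (Matrix.of fun a b : {k // s k} =>
      polarBilin Q (Pi.single (a : ι) 1) (Pi.single (b : ι) 1)).det = (-1) ^ i := by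
    rw [← Matrix.det_submatrix_equiv_self e, ← det_plusGram (F := F) i]
    congr 1
    ext a b
    exact hgram a b
  rw [exists_diag_mem_Omega_iff Q hQ h2 hn s hs, hcard, hdet, pow_add,
    sqClass_sq_mul _ (pow_ne_zero _ h2), and_iff_right ⟨i, rfl⟩, sqClass_neg_one_pow hodd]

end Cfsg.Agent.Lib.QuadFin
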