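import Cfsg.Agent.Lib.QuadFin.CyclicNilpotent

/-!
Regular unipotent elements of symplectic groups in odd characteristic: commutants and classes.
-/

set_option autoImplicit false

namespace Cfsg.Agent.Lib.QuadFin

open Matrix

variable {F : Type*} [Field F] {l : Type*} [Fintype l] [DecidableEq l]

/-- The adjoint for the standard alternating form. -/
def adjJ : Matrix (l ⊕ l) (l ⊕ l) F →ₗ[F] Matrix (l ⊕ l) (l ⊕ l) F where
  toFun a := -(J l F * aᵀ * J l F)
  map_add' a b := by rw [transpose_add, mul_add, add_mul, neg_add]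
  map_smul' c a := by simp [transpose_smul, Matrix.mul_smul, Matrix.smul_mul]

theorem adjJ_apply (a : Matrix (l ⊕ l) (l ⊕ l) F) : adjJ a = -(J l F * aᵀ * J l F) := rfl

theorem adjJ_one : adjJ (1 : Matrix (l ⊕ l) (l ⊕ l) F) = 1 := by
  rw [adjJ_apply, transpose_one, mul_one, J_squared, neg_neg]

theorem adjJ_mul (a b : Matrix (l ⊕ l) (l ⊕ l) F) : adjJ (a * b) = adjJ b * adjJ a := by
  simp only [adjJ_apply, transpose_mul, neg_mul, mul_neg, neg_neg, mul_assoc]
  rw [← mul_assoc (J l F) (J l F), J_squared, neg_one_mul, mul_neg, mul_neg]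

theorem transpose_mul_J (a : Matrix (l ⊕ l) (l ⊕ l) F) : aᵀ * J l F = J l F * adjJ a := by
  rw [adjJ_apply, mul_neg, ← mul_assoc, ← mul_assoc, J_squared, neg_one_mul, neg_mul, neg_neg]

theorem mem_symplecticGroup_iff_adjJ {a : Matrix (l ⊕ l) (l ⊕ l) F} :
    a ∈ symplecticGroup l F ↔ adjJ a * a = 1 := by
  rw [SymplecticGroup.mem_iff', transpose_mul_J, mul_assoc]
  constructor
  · intro h
    have := congrArg (-(J l F) * ·) h
    simpa [← mul_assoc, J_squared] using this
  · intro h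
    rw [h, mul_one]

theorem adjJ_eq_inv (u : symplecticGroup l F) :
    adjJ (u : Matrix (l ⊕ l) (l ⊕ l) F) = ((u⁻¹ : symplecticGroup l F) : Matrix (l ⊕ l) (l ⊕ l) F) := by
  rw [SymplecticGroup.coe_inv, adjJ_apply, neg_mul, neg_mul]

/-- The odd part `u - u⁻¹`. -/
def oddPart (u : symplecticGroup l F) : Matrix (l ⊕ l) (l ⊕ l) F :=
  (u : Matrix (l ⊕ l) (l ⊕ l) F) - ((u⁻¹ : symplecticGroup l F) : Matrix (l ⊕ l) (l ⊕ l) F)

theorem adjJ_oddPart (u : symplecticGroup l F) : adjJ (oddPart u) = -oddPart u := by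
  rw [oddPart, map_sub, adjJ_eq_inv, adjJ_eq_inv, inv_inv, neg_sub]

theorem exists_cyc (h2 : (2 : F) ≠ 0) {m : ℕ} (hl : Fintype.card l = m) (hm : 1 ≤ m) (u : symplecticGroup l F)
    (hnil : ((u : Matrix (l ⊕ l) (l ⊕ l) F) - 1) ^ (2 * m) = 0)
    (hr : ((u : Matrix (l ⊕ l) (l ⊕ l) F) - 1).rank = 2 * m - 1) :
    ∃ D D' : Cyc F (l ⊕ l) (2 * m), D.s = oddPart u ∧ D'.s = (u : Matrix (l ⊕ l) (l ⊕ l) F) - 1 ∧
      Commute (u : Matrix (l ⊕ l) (l ⊕ l) F) D.s ∧ ∀ a, Commute a D.s → Commute a (u : Matrix (l ⊕ l) (l ⊕ l) F) := by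
  have hcard : Fintype.card (l ⊕ l) = 2 * m := by rw [Fintype.card_sum, hl]; ring
  obtain ⟨D', hD'⟩ := Cyc.exists_of_rank hcard (by omega) hnil hr
  obtain ⟨U, hU⟩ : ∃ U, U = (u : Matrix (l ⊕ l) (l ⊕ l) F) := ⟨_, rfl⟩
  obtain ⟨V, hV⟩ : ∃ V, V = ((u⁻¹ : symplecticGroup l F) : Matrix (l ⊕ l) (l ⊕ l) F) := ⟨_, rfl⟩
  have hUV : U * V = 1 := by rw [hU, hV]; exact congrArg Subtype.val (mul_inv_cancel u)
  have hVU : V * U = 1 := by rw [hU, hV]; exact congrArg Subtype.val (inv_mul_cancel u)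
  rw [← hU] at hnil hr hD' ⊢
  have hW : IsUnit (V * (U + 1)) := by
    refine IsUnit.mul ⟨⟨V, U, hVU, hUV⟩, rfl⟩ ?_
    have h : IsUnit ((2 : F) • (1 : Matrix (l ⊕ l) (l ⊕ l) F) + (U - 1)) :=
      IsNilpotent.isUnit_add_left_of_commute ⟨2 * m, hnil⟩ ((isUnit_one).smul (Units.mk0 _ h2))
        ((Commute.one_right _).smul_right _)
    rwa [two_smul, show (1 : Matrix (l ⊕ l) (l ⊕ l) F) + 1 + (U - 1) = U + 1 by abel] at h
  have hs : oddPart u = V * (U + 1) * (U - 1) := by
    rw [oddPart, ← hU, ← hV, mul_add, mul_one, hVU, add_mul, one_mul, mul_sub, mul_one, hVU]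
    abel
  have hVc : Commute V (U - 1) := by
    show V * (U - 1) = (U - 1) * V
    rw [mul_sub, sub_mul, hVU, hUV, mul_one, one_mul]
  have hWc : Commute (V * (U + 1)) (U - 1) :=
    hVc.mul_left (((Commute.refl U).add_left (Commute.one_left U)).sub_right (Commute.one_right _))
  obtain ⟨D, hD⟩ := Cyc.exists_of_rank hcard (by omega) (N := oddPart u)
    (by rw [hs, hWc.mul_pow, hnil, mul_zero])
    (by rw [hs, Matrix.rank_mul_eq_right_of_isUnit_det _ _ ((Matrix.isUnit_iff_isUnit_det _).mp hW), hr])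
  have hUs : Commute U D.s := by
    show U * D.s = D.s * U
    rw [hD, oddPart, ← hU, ← hV, mul_sub, sub_mul, hUV, hVU]
  exact ⟨D, D', hD, hD', hUs, fun a ha => D.commute_of_commute ha hUs⟩

variable [Finite F]

theorem card_centralizer_regular (h2 : (2 : F) ≠ 0) {m : ℕ} (hl : Fintype.card l = m) (hm : 1 ≤ m)
    (u : symplecticGroup l F)
    (hnil : ((u : Matrix (l ⊕ l) (l ⊕ l) F) - 1) ^ (2 * m) = 0)
    (hr : ((u : Matrix (l ⊕ l) (l ⊕ l) F) - 1).rank = 2 * m - 1) :
    Nat.card ↥(Subgroup.centralizer ({u} : Set (symplecticGroup l F))) = 2 * Nat.card F ^ m := by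
  obtain ⟨D, -, hD, -, hUs, hcU⟩ := exists_cyc h2 hl hm u hnil hr
  rw [← D.card_norm_one (τ := adjJ) adjJ_one adjJ_mul (by rw [hD, adjJ_oddPart]) h2 (m := m) rfl]
  refine Nat.card_congr
    { toFun := fun g => ⟨(g.1 : Matrix (l ⊕ l) (l ⊕ l) F), ?_, mem_symplecticGroup_iff_adjJ.mp g.1.2⟩
      invFun := fun a => ⟨⟨a.1, mem_symplecticGroup_iff_adjJ.mpr a.2.2⟩, ?_⟩
      left_inv := fun g => rfl
      right_inv := fun a => rfl }
  · have h := Subgroup.mem_centralizer_singleton_iff.mp g.2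
    have h' : g.1 * u⁻¹ = u⁻¹ * g.1 := (Commute.inv_right h).eq
    rw [hD, oddPart]
    exact (show Commute _ _ from congrArg Subtype.val h).sub_right (congrArg Subtype.val h')
  · exact Subgroup.mem_centralizer_singleton_iff.mpr (Subtype.ext (hcU a.1 a.2.1).eq)

/-- A regular unipotent element of the symplectic group. -/
theorem exists_regular {m : ℕ} (hm : 1 ≤ m) :
    ∃ u : symplecticGroup (Fin m) F, ((u : Matrix (Fin m ⊕ Fin m) (Fin m ⊕ Fin m) F) - 1) ^ (2 * m) = 0 ∧
      ((u : Matrix (Fin m ⊕ Fin m) (Fin m ⊕ Fin m) F) - 1).rank = 2 * m - 1 := by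
  classical
  haveI : NeZero m := ⟨by omega⟩
  let S : Matrix (Fin m) (Fin m) F := Matrix.of fun i j => if (i : ℕ) = j + 1 then 1 else 0
  have hSpow : ∀ (k : ℕ) (i j : Fin m), (i : ℕ) < j + k → (S ^ k) i j = 0 := by
    intro k
    induction k with
    | zero => intro i j h; rw [pow_zero, Matrix.one_apply_ne]; intro e; subst e; omega
    | succ k ih =>
      intro i j h
      rw [pow_succ, Matrix.mul_apply]
      refine Finset.sum_eq_zero fun x _ => ?_
      simp only [S, Matrix.of_apply]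
      split_ifs with hx
      · rw [ih i x (by omega), zero_mul]
      · rw [mul_zero]
  have hSm : S ^ m = 0 := Matrix.ext fun i j => hSpow m i j (by omega)
  let A : Matrix (Fin m) (Fin m) F := 1 + S
  have hAu : IsUnit A := IsNilpotent.isUnit_one_add ⟨m, hSm⟩
  have hAdet : IsUnit A.det := (Matrix.isUnit_iff_isUnit_det A).mp hAu
  let B : Matrix (Fin m) (Fin m) F := (A⁻¹)ᵀ
  have hBm : (B - 1) ^ m = 0 := by
    have hc : Commute A⁻¹ S := by
      have : Commute A S := (Commute.one_left S).add_left (Commute.refl S)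
      rw [Matrix.nonsing_inv_eq_ringInverse]
      obtain ⟨a, ha⟩ := hAu
      rw [← ha, Ring.inverse_unit]
      exact (ha ▸ this : Commute (a : Matrix (Fin m) (Fin m) F) S).units_inv_left
    have e : B - 1 = (-(A⁻¹ * S))ᵀ := by
      show (A⁻¹)ᵀ - 1 = _
      rw [← Matrix.transpose_one, ← Matrix.transpose_sub]
      congr 1
      have := Matrix.nonsing_inv_mul A hAdet
      simp only [A, mul_add, mul_one] at this ⊢
      rw [eq_neg_iff_add_eq_zero, sub_add_eq_add_sub, this, sub_self]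
    rw [e, ← Matrix.transpose_pow, neg_pow, hc.mul_pow, hSm]
    simp
  let E : Matrix (Fin m) (Fin m) F := Matrix.single 0 0 1
  have hmem : fromBlocks A (A * E) 0 B ∈ symplecticGroup (Fin m) F := by
    rw [SymplecticGroup.fromBlocks_mem_iff]
    have hAB : Aᵀ * B = 1 := by
      show Aᵀ * (A⁻¹)ᵀ = 1
      rw [← Matrix.transpose_mul, Matrix.nonsing_inv_mul A hAdet, Matrix.transpose_one]
    refine ⟨by simp, ?_, by simpa using hAB⟩
    have e1 : (A * E)ᵀ * B = E := by
      rw [Matrix.transpose_mul, mul_assoc, hAB, mul_one]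
      simp [E]
    have e2 : Bᵀ * (A * E) = E := by
      show (A⁻¹)ᵀᵀ * (A * E) = E
      rw [Matrix.transpose_transpose, ← mul_assoc, Matrix.nonsing_inv_mul A hAdet, one_mul]
    rw [e1, e2]
  refine ⟨⟨_, hmem⟩, ?_⟩
  obtain ⟨N, hN⟩ : ∃ N, N = fromBlocks S (A * E) 0 (B - 1) := ⟨_, rfl⟩
  have hsub : fromBlocks A (A * E) 0 B - 1 = N := by
    rw [hN, ← fromBlocks_one, sub_eq_add_neg, fromBlocks_neg, fromBlocks_add]
    simp [A, sub_eq_add_neg]
  simp only [hsub]
  have hshape : ∀ k, ∃ X, N ^ k = fromBlocks (S ^ k) X 0 ((B - 1) ^ k) := by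
    intro k
    induction k with
    | zero => exact ⟨0, by simp [fromBlocks_one]⟩
    | succ k ih =>
      obtain ⟨X, hX⟩ := ih
      exact ⟨S ^ k * (A * E) + X * (B - 1), by rw [pow_succ, hX, hN, fromBlocks_multiply]; simp [pow_succ]⟩
  have hnil : N ^ (2 * m) = 0 := by
    obtain ⟨X, hX⟩ := hshape m
    rw [two_mul, pow_add, hX, hSm, hBm, fromBlocks_multiply]
    simp [← fromBlocks_zero]
  refine ⟨hnil, ?_⟩
  have hle : N.rank ≤ 2 * m - 1 := by
    by_contra h
    have hle' : N.rank ≤ Fintype.card (Fin m ⊕ Fin m) := Matrix.rank_le_card_width N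
    rw [Fintype.card_sum, Fintype.card_fin] at hle'
    have hfull : Module.finrank F (LinearMap.range N.mulVecLin) = Module.finrank F (Fin m ⊕ Fin m → F) := by
      rw [Module.finrank_fintype_fun_eq_card, Fintype.card_sum, Fintype.card_fin]
      show N.rank = _
      omega
    have hsurj : Function.Surjective N.mulVecLin :=
      LinearMap.range_eq_top.mp (Submodule.eq_top_of_finrank_eq hfull)
    have hu : IsUnit N := Matrix.mulVec_surjective_iff_isUnit.mp hsurj
    have := hu.pow (2 * m)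
    rw [hnil] at this
    exact not_isUnit_zero this
  refine le_antisymm hle ?_
  have hker : Module.finrank F (LinearMap.ker N.mulVecLin) ≤ 1 := by
    refine le_trans (Submodule.finrank_mono (t := Submodule.span F {Sum.elim (Pi.single (⟨m - 1, by omega⟩ : Fin m) (1 : F)) 0}) ?_)
      ((finrank_span_le_card _).trans (by simp))
    intro z hz
    rw [LinearMap.mem_ker, Matrix.mulVecLin_apply, hN, fromBlocks_mulVec] at hz
    have hx : (fun i => S *ᵥ (z ∘ Sum.inl) + (A * E) *ᵥ (z ∘ Sum.inr) |> fun f => f i) = 0 := funext fun i => congrFun hz (Sum.inl i)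
    have hy : (B - 1) *ᵥ (z ∘ Sum.inr) = 0 := funext fun i => by simpa using congrFun hz (Sum.inr i)
    have hy' : Sᵀ *ᵥ (z ∘ Sum.inr) = 0 := by
      have h1 := congrArg (Aᵀ *ᵥ ·) hy
      simp only [Matrix.mulVec_zero, Matrix.mulVec_mulVec] at h1
      rw [show Aᵀ * (B - 1) = -Sᵀ by
        show Aᵀ * ((A⁻¹)ᵀ - 1) = _
        rw [mul_sub, ← Matrix.transpose_mul, Matrix.nonsing_inv_mul A hAdet, Matrix.transpose_one, mul_one]
        simp [A]] at h1
      rw [Matrix.neg_mulVec, neg_eq_zero] at h1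
      exact h1
    have hy0 : ∀ j : Fin m, (j : ℕ) ≠ 0 → z (Sum.inr j) = 0 := by
      intro j hj
      have h1 := congrFun hy' ⟨j - 1, by omega⟩
      simp only [Matrix.mulVec, dotProduct, Matrix.transpose_apply, S, Matrix.of_apply, Function.comp_apply] at h1
      rw [Finset.sum_eq_single j] at h1
      · rwa [if_pos (by omega), one_mul] at h1
      · intro b _ hb
        rw [if_neg (fun e => hb (Fin.ext (by omega))), zero_mul]
      · simp
    have hS0 : ∀ x : Fin m → F, (S *ᵥ x) 0 = 0 := by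
      intro x
      simp [Matrix.mulVec, dotProduct, S]
    have hE : ∀ y : Fin m → F, E *ᵥ y = Pi.single 0 (y 0) := fun y => by
      ext i
      simp [E, Matrix.mulVec, dotProduct, Matrix.single_apply, Pi.single_apply, ite_and, eq_comm]
    have hz0 : z (Sum.inr 0) = 0 := by
      have h1 := congrFun hx 0
      simp only [Pi.add_apply, Pi.zero_apply, hS0, zero_add, ← Matrix.mulVec_mulVec, hE] at h1
      simpa [A, S, Matrix.add_mulVec, hS0] using h1
    have hyall : z ∘ Sum.inr = 0 := funext fun j => by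
      rcases eq_or_ne (j : ℕ) 0 with h | h
      · rw [show j = 0 from Fin.ext h]; exact hz0
      · exact hy0 j h
    have hx0 : ∀ j : Fin m, (j : ℕ) ≠ m - 1 → z (Sum.inl j) = 0 := by
      intro j hj
      have h1 := congrFun hx ⟨j + 1, by omega⟩
      simp only [hyall, Matrix.mulVec_zero, add_zero, Pi.zero_apply, Matrix.mulVec, dotProduct, S, Matrix.of_apply,
        Function.comp_apply] at h1
      rw [Finset.sum_eq_single j] at h1
      · rwa [if_pos rfl, one_mul] at h1
      · intro b _ hb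
        rw [if_neg (fun e => hb (Fin.ext (by simp at e; omega))), zero_mul]
      · simp
    rw [Submodule.mem_span_singleton]
    refine ⟨z (Sum.inl ⟨m - 1, by omega⟩), funext fun i => ?_⟩
    rcases i with j | j
    · rcases eq_or_ne (j : ℕ) (m - 1) with h | h
      · have hj : j = ⟨m - 1, by omega⟩ := Fin.ext h
        rw [hj]; simp
      · have hj : j ≠ ⟨m - 1, by omega⟩ := fun e => h (congrArg Fin.val e)
        simp [hx0 j h, hj]
    · simpa using (congrFun hyall j).symm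
  have h := LinearMap.finrank_range_add_finrank_ker N.mulVecLin
  rw [Module.finrank_fintype_fun_eq_card, Fintype.card_sum, Fintype.card_fin] at h
  change N.rank + _ = _ at h
  omega

theorem exists_nonsquare_class (h2 : (2 : F) ≠ 0) :
    ∃ ν : F, ¬ IsSquare ν ∧ ∀ a : F, a ≠ 0 → IsSquare a ∨ ∃ b, b ≠ 0 ∧ a = ν * (b * b) := by
  classical
  cases nonempty_fintype F
  have hc : ringChar F ≠ 2 := fun h => by
    haveI := ringChar.of_eq h
    exact h2 (by simpa using CharP.cast_eq_zero F 2)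
  obtain ⟨ν, hν⟩ := FiniteField.exists_nonsquare hc
  refine ⟨ν, hν, fun a ha => ?_⟩
  by_cases hsq : IsSquare a
  · exact Or.inl hsq
  have hν0 : ν ≠ 0 := fun h => hν (h ▸ IsSquare.zero)
  have h1 := quadraticChar_neg_one_iff_not_isSquare.mpr hsq
  have h2' := quadraticChar_neg_one_iff_not_isSquare.mpr hν
  have hdiv : quadraticChar F (a * ν) = 1 := by rw [map_mul, h1, h2']; norm_num
  obtain ⟨c, hc'⟩ := (quadraticChar_one_iff_isSquare (mul_ne_zero ha hν0)).mp hdiv
  refine Or.inr ⟨c / ν, div_ne_zero (fun h => ?_) hν0, by field_simp; linear_combination hc'⟩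
  rw [h, mul_zero] at hc'
  exact mul_ne_zero ha hν0 hc'

/-- Two classes of regular unipotent elements. -/
theorem card_regular_classes (h2 : (2 : F) ≠ 0) {m : ℕ} (hm : 1 ≤ m) :
    Nat.card {C : ConjClasses ↥(symplecticGroup (Fin m) F) // ∃ u : symplecticGroup (Fin m) F,
      ConjClasses.mk u = C ∧ ((u : Matrix (Fin m ⊕ Fin m) (Fin m ⊕ Fin m) F) - 1) ^ (2 * m) = 0 ∧
      ((u : Matrix (Fin m ⊕ Fin m) (Fin m ⊕ Fin m) F) - 1).rank = 2 * m - 1} = 2 := by
  classical
  obtain ⟨u, hnil, hr⟩ := exists_regular (F := F) hm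
  obtain ⟨D, D', hD, hD', hUs, hcU⟩ := exists_cyc h2 (Fintype.card_fin m) hm u hnil hr
  obtain ⟨ν, hν, hdich⟩ := exists_nonsquare_class (F := F) h2
  have hν0 : ν ≠ 0 := fun h => hν (h ▸ IsSquare.zero)
  have hτs : adjJ D.s = -D.s := by rw [hD, adjJ_oddPart]
  obtain ⟨d, hd⟩ : ∃ d : Matrix (Fin m ⊕ Fin m) (Fin m ⊕ Fin m) F, d = fromBlocks 1 0 0 (ν • 1) := ⟨_, rfl⟩
  obtain ⟨d', hd'⟩ : ∃ d' : Matrix (Fin m ⊕ Fin m) (Fin m ⊕ Fin m) F, d' = fromBlocks 1 0 0 (ν⁻¹ • 1) := ⟨_, rfl⟩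
  have hdd' : d * d' = 1 ∧ d' * d = 1 := by
    constructor <;> simp [hd, hd', fromBlocks_multiply, smul_smul, hν0, fromBlocks_one]
  have hdadj : adjJ d * d = ν • 1 := by
    simp [adjJ_apply, hd, J, fromBlocks_transpose, fromBlocks_multiply, fromBlocks_neg, fromBlocks_smul, ← fromBlocks_one]
  obtain ⟨U, hU⟩ : ∃ U, U = (u : Matrix (Fin m ⊕ Fin m) (Fin m ⊕ Fin m) F) := ⟨_, rfl⟩
  rw [← hU] at hnil hr hUs hcU hD'
  have hUadj : adjJ U * U = 1 := hU ▸ mem_symplecticGroup_iff_adjJ.mp u.2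
  have hd'adj : adjJ d' * d' = ν⁻¹ • 1 := by
    simp [adjJ_apply, hd', J, fromBlocks_transpose, fromBlocks_multiply, fromBlocks_neg, fromBlocks_smul, ← fromBlocks_one]
  have hu'mem : d * U * d' ∈ symplecticGroup (Fin m) F := by
    rw [mem_symplecticGroup_iff_adjJ, adjJ_mul, adjJ_mul]
    calc adjJ d' * (adjJ U * adjJ d) * (d * U * d') = adjJ d' * (adjJ U * ((adjJ d * d) * U)) * d' := by
          simp only [mul_assoc]
      _ = ν • (adjJ d' * ((adjJ U * U) * d')) := by
          rw [hdadj]; simp only [Matrix.smul_mul, Matrix.mul_smul, one_mul, mul_assoc]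
      _ = 1 := by rw [hUadj, one_mul, hd'adj, smul_smul, mul_inv_cancel₀ hν0, one_smul]
  obtain ⟨u', hu'⟩ : ∃ u' : symplecticGroup (Fin m) F, u' = ⟨d * U * d', hu'mem⟩ := ⟨_, rfl⟩
  have hu'v : (u' : Matrix (Fin m ⊕ Fin m) (Fin m ⊕ Fin m) F) = d * U * d' := by rw [hu']
  have hsub : d * U * d' - 1 = d * (U - 1) * d' := by
    rw [mul_sub, sub_mul, mul_one, hdd'.1]
  have hpow : ∀ k : ℕ, (d * (U - 1) * d') ^ k = d * (U - 1) ^ k * d' := by
    intro k
    induction k with
    | zero => simp [hdd'.1]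
    | succ k ih =>
      rw [pow_succ, ih, pow_succ]
      simp only [mul_assoc, ← mul_assoc d' d, hdd'.2, one_mul]
  have hreg' : ((u' : Matrix (Fin m ⊕ Fin m) (Fin m ⊕ Fin m) F) - 1) ^ (2 * m) = 0 ∧
      ((u' : Matrix (Fin m ⊕ Fin m) (Fin m ⊕ Fin m) F) - 1).rank = 2 * m - 1 := by
    rw [hu'v, hsub, hpow, hnil]
    refine ⟨by simp, ?_⟩
    rw [Matrix.rank_mul_eq_left_of_isUnit_det _ _ (Matrix.isUnit_det_of_right_inverse (B := d) hdd'.2),
      Matrix.rank_mul_eq_right_of_isUnit_det _ _ (Matrix.isUnit_det_of_right_inverse (B := d') hdd'.1), hr]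
  have hne : ¬ IsConj u u' := by
    intro hc
    obtain ⟨x, hx⟩ := isConj_iff.mp hc
    have hxv := congrArg Subtype.val hx
    simp only [Submonoid.coe_mul, hu'v, ← hU] at hxv
    obtain ⟨X, hX⟩ : ∃ X, X = (x : Matrix (Fin m ⊕ Fin m) (Fin m ⊕ Fin m) F) := ⟨_, rfl⟩
    obtain ⟨Y, hY⟩ : ∃ Y, Y = ((x⁻¹ : symplecticGroup (Fin m) F) : Matrix (Fin m ⊕ Fin m) (Fin m ⊕ Fin m) F) := ⟨_, rfl⟩
    rw [← hX, ← hY] at hxv
    have hXY : X * Y = 1 := by rw [hX, hY]; exact congrArg Subtype.val (mul_inv_cancel x)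
    have hYX : Y * X = 1 := by rw [hX, hY]; exact congrArg Subtype.val (inv_mul_cancel x)
    obtain ⟨k, hk⟩ : ∃ k, k = Y * d := ⟨_, rfl⟩
    have hkU : Commute k U := by
      show k * U = U * k
      calc k * U = Y * (d * U * d') * d := by
            rw [hk]; simp only [mul_assoc, hdd'.2, mul_one]
        _ = (Y * X) * U * (Y * d) := by rw [← hxv]; simp only [mul_assoc]
        _ = U * k := by rw [hYX, one_mul, hk]
    have hkV : Commute k D.s := by
      have hV := congrArg Subtype.val (inv_mul_cancel u)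
      simp only [Submonoid.coe_mul, Submonoid.coe_one, ← hU] at hV
      have hV' := congrArg Subtype.val (mul_inv_cancel u)
      simp only [Submonoid.coe_mul, Submonoid.coe_one, ← hU] at hV'
      obtain ⟨V, hVd⟩ : ∃ V, V = ((u⁻¹ : symplecticGroup (Fin m) F) : Matrix (Fin m ⊕ Fin m) (Fin m ⊕ Fin m) F) := ⟨_, rfl⟩
      rw [← hVd] at hV hV'
      rw [hD, oddPart, ← hU, ← hVd]
      refine hkU.sub_right ?_
      show k * V = V * k
      calc k * V = V * (U * k) * V := by rw [← mul_assoc V U, hV, one_mul]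
        _ = V * (k * U) * V := by rw [hkU.eq]
        _ = V * k := by simp only [mul_assoc, hV', mul_one]
    have hnorm : adjJ k * k = ν • 1 := by
      rw [hk, adjJ_mul]
      have hYmem : adjJ Y * Y = 1 := hY ▸ mem_symplecticGroup_iff_adjJ.mp (x⁻¹).2
      calc adjJ d * adjJ Y * (Y * d) = adjJ d * ((adjJ Y * Y) * d) := by simp only [mul_assoc]
        _ = ν • 1 := by rw [hYmem, one_mul, hdadj]
    have hl := congrArg D.lead hnorm
    rw [D.lead_mul (D.commute_tau adjJ_one adjJ_mul hτs hkV) hkV,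
      D.lead_tau adjJ_one adjJ_mul hτs hkV, D.lead_smul, D.lead_one, mul_one] at hl
    exact hν ⟨_, hl.symm⟩
  have hall : ∀ v : symplecticGroup (Fin m) F,
      ((v : Matrix (Fin m ⊕ Fin m) (Fin m ⊕ Fin m) F) - 1) ^ (2 * m) = 0 →
      ((v : Matrix (Fin m ⊕ Fin m) (Fin m ⊕ Fin m) F) - 1).rank = 2 * m - 1 → IsConj u v ∨ IsConj u' v := by
    intro v hvn hvr
    obtain ⟨E, hE⟩ := Cyc.exists_of_rank (F := F) (ι := Fin m ⊕ Fin m) (n := 2 * m)
      (by rw [Fintype.card_sum, Fintype.card_fin]; ring) (by omega) hvn hvr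
    obtain ⟨W, hW⟩ : ∃ W, W = (v : Matrix (Fin m ⊕ Fin m) (Fin m ⊕ Fin m) F) := ⟨_, rfl⟩
    rw [← hW] at hE
    obtain ⟨e, he⟩ : ∃ e, e = D'.basis.equiv E.basis (Equiv.refl _) := ⟨_, rfl⟩
    obtain ⟨g, hg⟩ : ∃ g, g = LinearMap.toMatrix' e.toLinearMap := ⟨_, rfl⟩
    obtain ⟨g', hg'⟩ : ∃ g', g' = LinearMap.toMatrix' e.symm.toLinearMap := ⟨_, rfl⟩
    have hgv : ∀ x, g *ᵥ x = e x := fun x => by rw [hg, ← Matrix.toLin'_apply, Matrix.toLin'_toMatrix']; rfl
    have hgg' : g * g' = 1 ∧ g' * g = 1 := by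
      constructor
      · rw [hg, hg', ← LinearMap.toMatrix'_comp, LinearEquiv.comp_symm, LinearMap.toMatrix'_id]
      · rw [hg, hg', ← LinearMap.toMatrix'_comp, LinearEquiv.symm_comp, LinearMap.toMatrix'_id]
    have hgN : g * (U - 1) = (W - 1) * g := by
      rw [← hD', ← hE]
      refine Matrix.toLin'.injective (D'.basis.ext fun i => ?_)
      simp only [Matrix.toLin'_apply]
      rw [← Matrix.mulVec_mulVec, ← Matrix.mulVec_mulVec, hgv, hgv, show e (D'.basis i) = E.basis i by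
        rw [he, Module.Basis.equiv_apply]; rfl, D'.basis_apply, E.basis_apply, Matrix.mulVec_mulVec,
        Matrix.mulVec_mulVec, ← pow_succ', ← pow_succ']
      by_cases hi : (i : ℕ) + 1 < 2 * m
      · have := congrArg e (D'.basis_apply ⟨(i : ℕ) + 1, hi⟩)
        rw [he, Module.Basis.equiv_apply, Equiv.refl_apply, E.basis_apply] at this
        rw [he]; exact this.symm
      · rw [pow_eq_zero_of_le (by omega) D'.nil, pow_eq_zero_of_le (by omega) E.nil, Matrix.zero_mulVec, map_zero, Matrix.zero_mulVec]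
    rw [mul_sub, mul_one, sub_mul, one_mul, sub_left_inj] at hgN
    obtain ⟨f, hf⟩ : ∃ f, f = adjJ g * g := ⟨_, rfl⟩
    have hWadj : adjJ W * W = 1 := hW ▸ mem_symplecticGroup_iff_adjJ.mp v.2
    have hinv : adjJ U * f * U = f := by
      calc adjJ U * f * U = adjJ (g * U) * (g * U) := by rw [hf, adjJ_mul]; simp only [mul_assoc]
        _ = adjJ g * ((adjJ W * W) * g) := by rw [hgN, adjJ_mul]; simp only [mul_assoc]
        _ = f := by rw [hWadj, one_mul, hf]
    obtain ⟨V, hV⟩ : ∃ V, V = adjJ U := ⟨_, rfl⟩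
    rw [← hV] at hinv hUadj
    have hUV : U * V = 1 := mul_eq_one_comm.mp hUadj
    have hfU : Commute f U := by
      show f * U = U * f
      conv_rhs => rw [← hinv]
      rw [← mul_assoc, ← mul_assoc, hUV, one_mul]
    have hfD : Commute f D.s := by
      rw [hD, oddPart, ← hU, ← adjJ_eq_inv, ← hU, ← hV]
      refine hfU.sub_right ?_
      show f * V = V * f
      calc f * V = V * (U * f) * V := by rw [← mul_assoc V U, hUadj, one_mul]
        _ = V * (f * U) * V := by rw [hfU.eq]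
        _ = V * f := by simp only [mul_assoc, hUV, mul_one]
    have hfe : adjJ f = f := by
      have hinv2 : adjJ (adjJ g) = g := by
        simp only [adjJ_apply, transpose_neg, transpose_mul, transpose_transpose, J_transpose, neg_mul, mul_neg, neg_neg]
        simp only [← mul_assoc, J_squared, neg_one_mul]
        simp only [mul_assoc, J_squared, mul_neg, mul_one, neg_neg, neg_mul]
      rw [hf, adjJ_mul, hinv2]
    have hfu : IsUnit f := by
      refine ⟨⟨f, g' * adjJ g', ?_, ?_⟩, rfl⟩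
      · calc f * (g' * adjJ g') = adjJ g * ((g * g') * adjJ g') := by rw [hf]; simp only [mul_assoc]
          _ = adjJ (g' * g) := by rw [hgg'.1, one_mul, adjJ_mul]
          _ = 1 := by rw [hgg'.2, adjJ_one]
      · calc g' * adjJ g' * f = g' * ((adjJ g' * adjJ g) * g) := by rw [hf]; simp only [mul_assoc]
          _ = 1 := by rw [← adjJ_mul, hgg'.1, adjJ_one, one_mul, hgg'.2]
    have hl0 := (D.isUnit_iff_lead hfD).mp hfu
    obtain ⟨k, hk, hke, hku, hfk⟩ := D.exists_sqrt adjJ_one adjJ_mul hτs h2 hfD hfe hl0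
    obtain ⟨ku, hkud⟩ := hku
    obtain ⟨k', hk'⟩ : ∃ k', k' = (↑ku⁻¹ : Matrix (Fin m ⊕ Fin m) (Fin m ⊕ Fin m) F) := ⟨_, rfl⟩
    have hkk' : k * k' = 1 ∧ k' * k = 1 := by rw [← hkud, hk']; exact ⟨ku.mul_inv, ku.inv_mul⟩
    have hk'c : Commute k' U := by
      show k' * U = U * k'
      calc k' * U = k' * (U * k) * k' := by simp only [mul_assoc, hkk'.1, mul_one]
        _ = k' * (k * U) * k' := by rw [(hcU k hk).eq]
        _ = U * k' := by rw [← mul_assoc k' k, hkk'.2, one_mul]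
    have hk'e : adjJ k' = k' := by
      have h1 : adjJ k' * k = 1 := by
        have := congrArg adjJ hkk'.1
        rwa [adjJ_mul, hke, adjJ_one] at this
      calc adjJ k' = adjJ k' * k * k' := by rw [mul_assoc, hkk'.1, mul_one]
        _ = k' := by rw [h1, one_mul]
    have hgk : adjJ (g * k') * (g * k') = D.lead f • 1 := by
      calc adjJ (g * k') * (g * k') = k' * f * k' := by rw [adjJ_mul, hk'e, hf]; simp only [mul_assoc]
        _ = D.lead f • ((k' * k) * (k * k')) := by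
            conv_lhs => rw [hfk]
            simp only [Matrix.mul_smul, Matrix.smul_mul, mul_assoc]
        _ = _ := by rw [hkk'.1, hkk'.2, one_mul]
    have hgkU : g * k' * U = W * (g * k') := by
      rw [mul_assoc, hk'c.eq, ← mul_assoc, hgN, mul_assoc]
    -- from a similitude to a conjugating element
    have finish : ∀ (h Z : Matrix (Fin m ⊕ Fin m) (Fin m ⊕ Fin m) F) (z : symplecticGroup (Fin m) F),
        (z : Matrix (Fin m ⊕ Fin m) (Fin m ⊕ Fin m) F) = Z → adjJ h * h = 1 → h * Z = W * h → IsConj z v := by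
      intro h Z z hz hh hhZ
      refine isConj_iff.mpr ⟨⟨h, mem_symplecticGroup_iff_adjJ.mpr hh⟩, ?_⟩
      rw [mul_inv_eq_iff_eq_mul]
      apply Subtype.ext
      simp only [Submonoid.coe_mul, hz, ← hW]
      exact hhZ
    rcases hdich _ hl0 with ⟨b, hb⟩ | ⟨b, hb0, hb⟩
    · left
      have hb0 : b ≠ 0 := fun h => hl0 (by rw [hb, h, mul_zero])
      refine finish (b⁻¹ • (g * k')) U u hU.symm ?_ ?_
      · rw [map_smul, Matrix.smul_mul, Matrix.mul_smul, hgk, hb, smul_smul, smul_smul]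
        rw [show b⁻¹ * b⁻¹ * (b * b) = 1 by field_simp, one_smul]
      · rw [Matrix.smul_mul, hgkU, Matrix.mul_smul]
    · right
      refine finish (b⁻¹ • (g * k' * d')) (d * U * d') u' hu'v ?_ ?_
      · rw [map_smul, Matrix.smul_mul, Matrix.mul_smul, adjJ_mul, mul_assoc, ← mul_assoc (adjJ (g * k')), hgk, hb]
        simp only [Matrix.smul_mul, Matrix.mul_smul, one_mul, hd'adj, smul_smul]
        rw [show b⁻¹ * (b⁻¹ * (ν * (b * b) * ν⁻¹)) = 1 by field_simp, one_smul]
      · rw [Matrix.smul_mul, Matrix.mul_smul]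
        congr 1
        calc g * k' * d' * (d * U * d') = g * k' * ((d' * d) * U) * d' := by simp only [mul_assoc]
          _ = W * (g * k' * d') := by rw [hdd'.2, one_mul, hgkU]; simp only [mul_assoc]
  rw [← Nat.card_congr (Equiv.subtypeEquivRight (p := fun C => C = ConjClasses.mk u ∨ C = ConjClasses.mk u') fun C => ?_)]
  · rw [← Set.coe_setOf, Nat.card_coe_set_eq]
    exact Set.ncard_pair (fun h => hne (ConjClasses.mk_eq_mk_iff_isConj.mp h))
  · constructor
    · rintro (rfl | rfl)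
      · exact ⟨u, rfl, hU ▸ hnil, hU ▸ hr⟩
      · exact ⟨u', rfl, hreg'⟩
    · rintro ⟨v, rfl, hvn, hvr⟩
      rcases hall v hvn hvr with h | h
      · exact Or.inl (ConjClasses.mk_eq_mk_iff_isConj.mpr h).symm
      · exact Or.inr (ConjClasses.mk_eq_mk_iff_isConj.mpr h).symm

end Cfsg.Agent.Lib.QuadFin
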