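import Mathlib
import Cfsg.Agent.Lib.Classical.HermCard

/-!
Fixed-point-free elements of order three of symplectic groups when `q ≡ 2 (mod 3)`.
-/

set_option autoImplicit false

namespace Cfsg.Agent.Lib.QuadFin

open Matrix QuadraticAlgebra

variable {F : Type*} [Field F] [Fintype F] {q : ℕ}

theorem three_ne_zero_of_mod (hF : Fintype.card F = q) (hq : q % 3 = 2) : (3 : F) ≠ 0 := by
  intro h30
  haveI := Fact.mk (Nat.prime_three)
  haveI : CharP F 3 := by
    have hp : (ringChar F).Prime := CharP.char_is_prime F (ringChar F)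
    have hd : ringChar F ∣ 3 := (ringChar.spec F 3).mp (by exact_mod_cast h30)
    exact ringChar.of_eq ((Nat.prime_dvd_prime_iff_eq hp Nat.prime_three).mp hd)
  obtain ⟨n, -, hn⟩ := FiniteField.card F 3
  rw [hF] at hn
  have : 3 ∣ q := hn ▸ dvd_pow_self 3 n.pos.ne'
  omega

theorem no_root_of_mod_three (hF : Fintype.card F = q) (hq : q % 3 = 2) (r : F) : r ^ 2 ≠ -1 + -1 * r := by
  intro h
  have h1 : r ^ 2 + r + 1 = 0 := by linear_combination h
  have h3 : r ^ 3 = 1 := by linear_combination (r - 1) * h1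
  have hr0 : r ≠ 0 := by rintro rfl; simp at h1
  have hq2 : r ^ (q - 1) = 1 := hF ▸ FiniteField.pow_card_sub_one_eq_one r hr0
  have hr1 : r = 1 := by
    obtain ⟨k, hk⟩ : ∃ k, q - 1 = 3 * k + 1 := ⟨q / 3, by omega⟩
    rwa [hk, pow_succ, pow_mul, h3, one_pow, one_mul] at hq2
  subst hr1
  exact three_ne_zero_of_mod hF hq (by linear_combination h1)

/-- The standard fixed-point-free symplectic matrix of order three. -/
def omegaMat (F : Type*) [Field F] (m : ℕ) : Matrix (Fin m ⊕ Fin m) (Fin m ⊕ Fin m) F :=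
  fromBlocks 0 (-1) 1 (-1)

theorem omegaMat_mem (m : ℕ) : omegaMat F m ∈ symplecticGroup (Fin m) F := by
  simp [omegaMat, SymplecticGroup.fromBlocks_mem_iff]

theorem exists_norm [Fact (∀ r : F, r ^ 2 ≠ -1 + -1 * r)] (hF : Fintype.card F = q) (hq : q % 3 = 2) (t : F) :
    ∃ a b : F, a * a - a * b + b * b = t := by
  classical
  letI : Fintype (QuadraticAlgebra F (-1) (-1)) := Fintype.ofEquiv _ (QuadraticAlgebra.equivProd (-1 : F) (-1)).symm
  have hK : Fintype.card (QuadraticAlgebra F (-1) (-1)) = q ^ 2 := by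
    rw [Fintype.card_congr (QuadraticAlgebra.equivProd (-1 : F) (-1)), Fintype.card_prod, hF, sq]
  obtain ⟨w, hw⟩ : ∃ w : QuadraticAlgebra F (-1) (-1), w = ⟨0, 1⟩ := ⟨_, rfl⟩
  have hw2 : w ^ 2 = ⟨-1, -1⟩ := by rw [hw, sq]; ext <;> simp
  have hwq : w ^ q = ⟨-1, -1⟩ := by
    have hw3 : w ^ 3 = 1 := by rw [pow_succ, hw2, hw]; ext <;> simp
    rw [← Nat.div_add_mod q 3, hq, pow_add, pow_mul, hw3, one_pow, one_mul, hw2]
  have hconj : ∀ x y : F, (⟨x, y⟩ : QuadraticAlgebra F (-1) (-1)) ^ q = ⟨x - y, -y⟩ := by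
    intro x y
    have e : (⟨x, y⟩ : QuadraticAlgebra F (-1) (-1)) = algebraMap F _ x + algebraMap F _ y * w := by
      rw [hw]; ext <;> simp
    rw [e, ← Cfsg.Agent.Lib.Classical.conjHom_apply hK, map_add, map_mul]
    simp only [Cfsg.Agent.Lib.Classical.conjHom_apply, ← map_pow, ← hF, FiniteField.pow_card]
    rw [hF, hwq]
    ext <;> simp [sub_eq_add_neg]
  have hd : (algebraMap F (QuadraticAlgebra F (-1) (-1)) t) ^ q = algebraMap F _ t := by
    rw [← map_pow, ← hF, FiniteField.pow_card]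
  have hc := Cfsg.Agent.Lib.Classical.card_norm_eq hK (algebraMap F _ t) hd
  obtain ⟨⟨⟨a, b⟩, hab⟩⟩ : Nonempty {x : QuadraticAlgebra F (-1) (-1) // x ^ (q + 1) = algebraMap F _ t} :=
    (Nat.card_pos_iff.mp (by rw [hc]; split_ifs <;> omega)).1
  refine ⟨a, b, ?_⟩
  rw [pow_succ, hconj] at hab
  have h := congrArg QuadraticAlgebra.re hab
  simp at h
  linear_combination h

theorem exists_conj_omegaMat (hF : Fintype.card F = q) (hq : q % 3 = 2) {m : ℕ}
    (x : symplecticGroup (Fin m) F) (hx3 : x ^ 3 = 1)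
    (hfpf : IsUnit ((x : Matrix (Fin m ⊕ Fin m) (Fin m ⊕ Fin m) F) - 1)) :
    ∃ g : symplecticGroup (Fin m) F, g⁻¹ * x * g = ⟨omegaMat F m, omegaMat_mem m⟩ := by
  classical
  haveI : Fact (∀ r : F, r ^ 2 ≠ -1 + -1 * r) := ⟨no_root_of_mod_three hF hq⟩
  obtain ⟨X, hX⟩ : ∃ X, X = (x : Matrix (Fin m ⊕ Fin m) (Fin m ⊕ Fin m) F) := ⟨_, rfl⟩
  have hX3 : X * X * X = 1 := by
    have := congrArg Subtype.val hx3
    simpa [pow_succ, hX] using this
  have hX2 : X * X = -1 - X := by
    rw [← hX] at hfpf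
    have h0 : (X - 1) * (X * X + X + 1) = 0 := by
      simp only [sub_mul, mul_add, one_mul, mul_one, ← mul_assoc, hX3]; abel
    have := hfpf.mul_right_eq_zero.mp h0
    rw [eq_sub_iff_add_eq, eq_neg_iff_add_eq_zero]
    exact this
  obtain ⟨B, hB⟩ : ∃ B : (Fin m ⊕ Fin m → F) → (Fin m ⊕ Fin m → F) → F,
      B = fun u w => u ⬝ᵥ (J (Fin m) F *ᵥ w) := ⟨_, rfl⟩
  have hBap : ∀ u w, B u w = u ⬝ᵥ (J (Fin m) F *ᵥ w) := fun u w => by rw [hB]
  have hadd : ∀ u w w', B u (w + w') = B u w + B u w' := fun u w w' => by simp [hBap, mulVec_add]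
  have hadd' : ∀ u u' w, B (u + u') w = B u w + B u' w := fun u u' w => by simp [hBap]
  have hsm : ∀ (c : F) u w, B u (c • w) = c * B u w := fun c u w => by simp [hBap, mulVec_smul]
  have hsm' : ∀ (c : F) u w, B (c • u) w = c * B u w := fun c u w => by simp [hBap]
  have hneg : ∀ u w, B u (-w) = -B u w := fun u w => by simp [hBap, mulVec_neg]
  have hneg' : ∀ u w, B (-u) w = -B u w := fun u w => by simp [hBap]
  have hinv : ∀ u w, B (X *ᵥ u) (X *ᵥ w) = B u w := by
    intro u w
    rw [hBap, hBap, mulVec_mulVec, dotProduct_comm (X *ᵥ u), dotProduct_mulVec, dotProduct_comm u,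
      ← mulVec_transpose, mulVec_mulVec, ← mul_assoc, SymplecticGroup.mem_iff'.mp (hX ▸ x.2)]
  have hflip : ∀ u w, B w u = -B u w := by
    intro u w
    rw [hBap, hBap, dotProduct_comm u, dotProduct_mulVec, ← mulVec_transpose, J_transpose, neg_mulVec,
      neg_dotProduct, dotProduct_comm]
  have halt : ∀ u, B u u = 0 := by
    intro u
    simp only [hBap, dotProduct, Matrix.mulVec, Fintype.sum_sum_type, J, fromBlocks_apply₁₁, fromBlocks_apply₁₂,
      fromBlocks_apply₂₁, fromBlocks_apply₂₂, Matrix.zero_apply, zero_mul, Finset.sum_const_zero, zero_add, add_zero,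
      Matrix.neg_apply, Matrix.one_apply, neg_mul, ite_mul, one_mul, Finset.sum_neg_distrib, Finset.sum_ite_eq,
      Finset.mem_univ, if_true, mul_neg]
    rw [neg_add_eq_zero]
    exact Finset.sum_congr rfl fun i _ => mul_comm _ _
  have hnd : ∀ u, (∀ w, B u w = 0) → u = 0 := by
    intro u hu
    funext i
    have h := hu (-(J (Fin m) F *ᵥ Pi.single i 1))
    rw [hBap, mulVec_neg, mulVec_mulVec, J_squared, neg_mulVec, one_mulVec, neg_neg, dotProduct_single_one] at h
    exact h
  have hxx : ∀ w, X *ᵥ (X *ᵥ w) = -w - X *ᵥ w := fun w => by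
    rw [mulVec_mulVec, hX2, sub_mulVec, neg_mulVec, one_mulVec]
  have hinv' : ∀ u w, B u (X *ᵥ w) = B (-u - X *ᵥ u) w := fun u w => by
    rw [← hinv (-u - X *ᵥ u) w]
    congr 1
    rw [← hxx, mulVec_mulVec, mulVec_mulVec, hX3, one_mulVec]
  -- adapted families
  have key : ∀ k ≤ m, ∃ v : Fin k → (Fin m ⊕ Fin m → F),
      (∀ i j, B (v i) (v j) = 0) ∧ ∀ i j, B (v i) (X *ᵥ v j) = if i = j then -1 else 0 := by
    intro k hk
    induction k with
    | zero => exact ⟨fun i => i.elim0, fun i => i.elim0, fun i => i.elim0⟩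
    | succ k ih =>
      obtain ⟨v, hv1, hv2⟩ := ih (by omega)
      let L : (Fin m ⊕ Fin m → F) →ₗ[F] (Fin k → F) × (Fin k → F) :=
        { toFun := fun z => (fun i => B (v i) z, fun i => B (X *ᵥ v i) z)
          map_add' := fun z z' => by ext i <;> simp [hadd]
          map_smul' := fun c z => by ext i <;> simp [hsm] }
      obtain ⟨u, hu, hu0⟩ : ∃ u, L u = 0 ∧ u ≠ 0 := by
        by_contra hno
        push Not at hno
        have hinjL : Function.Injective L := by
          rw [← LinearMap.ker_eq_bot, eq_bot_iff]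
          intro z hz; exact hno z hz
        have := LinearMap.finrank_le_finrank_of_injective hinjL
        simp [Module.finrank_prod, Fintype.card_sum] at this
        omega
      have hmem : ∀ z, L z = 0 → ∀ i, B (v i) z = 0 ∧ B (X *ᵥ v i) z = 0 := fun z hz i =>
        ⟨congrFun (congrArg Prod.fst hz) i, congrFun (congrArg Prod.snd hz) i⟩
      have hWX : ∀ z, L z = 0 → L (X *ᵥ z) = 0 := by
        intro z hz
        refine Prod.ext (funext fun i => ?_) (funext fun i => ?_)
        · show B (v i) (X *ᵥ z) = 0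
          rw [hinv', sub_eq_add_neg, hadd', hneg', hneg', (hmem z hz i).1, (hmem z hz i).2, neg_zero, add_zero]
        · show B (X *ᵥ v i) (X *ᵥ z) = 0
          rw [hinv, (hmem z hz i).1]
      obtain ⟨w, hw, hwQ⟩ : ∃ w, L w = 0 ∧ B w (X *ᵥ w) ≠ 0 := by
        by_contra hno
        push Not at hno
        have hpol : ∀ a b, L a = 0 → L b = 0 → B a (X *ᵥ b) + B b (X *ᵥ a) = 0 := by
          intro a b ha hb
          have := hno (a + b) (by rw [map_add, ha, hb, add_zero])
          rw [mulVec_add, hadd', hadd, hadd, hno a ha, hno b hb, zero_add, add_zero] at this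
          exact this
        apply hu0
        apply hnd
        intro z
        obtain ⟨z', hz'⟩ : ∃ z', z' = z + ∑ i, ((-B (X *ᵥ v i) z) • v i + B (v i) z • (X *ᵥ v i)) := ⟨_, rfl⟩
        have hBsum : ∀ (a : Fin m ⊕ Fin m → F) (g : Fin k → (Fin m ⊕ Fin m → F)), B a (∑ i, g i) = ∑ i, B a (g i) :=
          fun a g => by simp [hBap, mulVec_sum, dotProduct_sum]
        have hXv : ∀ i j, B (X *ᵥ v i) (v j) = if i = j then 1 else 0 := fun i j => by
          rw [hflip, hv2]
          by_cases h : i = j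
          · subst h; simp
          · simp [h, Ne.symm h]
        have hLz : L z' = 0 := by
          refine Prod.ext (funext fun j => ?_) (funext fun j => ?_)
          · show B (v j) z' = 0
            rw [hz', hadd, hBsum]
            simp [hadd, hsm, hneg, hv1, hv2]
          · show B (X *ᵥ v j) z' = 0
            rw [hz', hadd, hBsum]
            simp [hadd, hsm, hneg, hXv, hinv, hv1]
        have hz : B u z = B u z' := by
          rw [hz', hadd, hBsum]
          have h1 : ∀ i, B u (v i) = 0 := fun i => by rw [hflip, (hmem u hu i).1, neg_zero]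
          have h2 : ∀ i, B u (X *ᵥ v i) = 0 := fun i => by rw [hflip, (hmem u hu i).2, neg_zero]
          simp [hadd, hsm, hneg, h1, h2]
        rw [hz]
        -- write z' as an image of x - x⁻¹ = 1 + 2 x
        obtain ⟨y, hy, hyz⟩ : ∃ y, L y = 0 ∧ y + X *ᵥ y + X *ᵥ y = z' := by
          let T : LinearMap.ker L →ₗ[F] LinearMap.ker L :=
            { toFun := fun y => ⟨y.1 + X *ᵥ y.1 + X *ᵥ y.1, by
                rw [LinearMap.mem_ker, map_add, map_add, hWX _ y.2, LinearMap.mem_ker.mp y.2, add_zero, add_zero]⟩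
              map_add' := fun a b => Subtype.ext (by simp [mulVec_add]; abel)
              map_smul' := fun c a => Subtype.ext (by simp [mulVec_smul]) }
          have hT : Function.Injective T := by
            rw [← LinearMap.ker_eq_bot, eq_bot_iff]
            rintro ⟨y, hy⟩ hTy
            have h : y + X *ᵥ y + X *ᵥ y = 0 := congrArg Subtype.val (LinearMap.mem_ker.mp hTy)
            have h' := congrArg (X *ᵥ ·) h
            simp only [mulVec_add, mulVec_zero, hxx] at h'
            have h3 : (3 : F) • y = 0 := by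
              rw [show (3 : F) = 1 + 1 + 1 by norm_num, add_smul, add_smul, one_smul]
              calc y + y + y = -((y + X *ᵥ y + X *ᵥ y) + (X *ᵥ y + (-y - X *ᵥ y) + (-y - X *ᵥ y))
                    + (X *ᵥ y + (-y - X *ᵥ y) + (-y - X *ᵥ y))) := by abel
                _ = 0 := by rw [h, h']; simp
            exact Subtype.ext ((smul_eq_zero.mp h3).resolve_left (three_ne_zero_of_mod hF hq))
          obtain ⟨⟨y, hy⟩, hyz⟩ := (LinearMap.injective_iff_surjective.mp hT) ⟨z', hLz⟩
          exact ⟨y, hy, congrArg Subtype.val hyz⟩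
        have hp := hpol u y hu hy
        rw [← hyz, hadd, hadd]
        have e : B y (X *ᵥ u) = B u y + B u (X *ᵥ y) := by
          rw [hinv', sub_eq_add_neg, hadd', hneg', hneg', hflip u y, hflip u (X *ᵥ y), neg_neg, neg_neg]
        rw [e] at hp
        linear_combination hp
      obtain ⟨a, b, hab⟩ := exists_norm hF hq (-1 / B w (X *ᵥ w))
      obtain ⟨w', hw'⟩ : ∃ w', w' = a • w + b • (X *ᵥ w) := ⟨_, rfl⟩
      have hw'L : L w' = 0 := by rw [hw', map_add, map_smul, map_smul, hw, hWX w hw]; simp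
      have hw'Q : B w' (X *ᵥ w') = -1 := by
        rw [hw', mulVec_add, mulVec_smul, mulVec_smul]
        simp only [hadd, hadd', hsm, hsm', hinv]
        rw [halt w, show B w (X *ᵥ (X *ᵥ w)) = -B w (X *ᵥ w) by
          rw [hxx, sub_eq_add_neg, hadd, hneg, hneg, halt, neg_zero, zero_add]]
        have := congrArg (· * B w (X *ᵥ w)) hab
        rw [div_mul_cancel₀ _ hwQ] at this
        linear_combination this
      refine ⟨Fin.snoc v w', fun i j => ?_, fun i j => ?_⟩
      · refine Fin.lastCases ?_ (fun i => ?_) i <;> refine Fin.lastCases ?_ (fun j => ?_) j <;>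
          simp only [Fin.snoc_last, Fin.snoc_castSucc]
        · exact halt w'
        · rw [hflip, (hmem w' hw'L j).1, neg_zero]
        · exact (hmem w' hw'L i).1
        · exact hv1 i j
      · refine Fin.lastCases ?_ (fun i => ?_) i <;> refine Fin.lastCases ?_ (fun j => ?_) j <;>
          simp only [Fin.snoc_last, Fin.snoc_castSucc]
        · simp [hw'Q]
        · rw [if_neg (Fin.castSucc_lt_last j).ne', hflip, (hmem w' hw'L j).2, neg_zero]
        · rw [if_neg (Fin.castSucc_lt_last i).ne]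
          exact (hmem _ (hWX w' hw'L) i).1
        · rw [hv2]; simp [Fin.castSucc_inj]
  obtain ⟨v, hv1, hv2⟩ := key m le_rfl
  obtain ⟨col, hcol⟩ : ∃ col : Fin m ⊕ Fin m → (Fin m ⊕ Fin m → F), col = Sum.elim v (fun i => X *ᵥ v i) := ⟨_, rfl⟩
  obtain ⟨G, hG⟩ : ∃ G : Matrix (Fin m ⊕ Fin m) (Fin m ⊕ Fin m) F, G = Matrix.of fun r c => col c r := ⟨_, rfl⟩
  have hGe : ∀ c, G *ᵥ Pi.single c 1 = col c := fun c => by rw [mulVec_single_one, hG]; rfl
  have hGJ : G ∈ symplecticGroup (Fin m) F := by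
    rw [SymplecticGroup.mem_iff']
    ext c d
    have : (Gᵀ * J (Fin m) F * G) c d = B (col c) (col d) := by
      rw [hBap, ← hGe c, ← hGe d, mulVec_mulVec, dotProduct_comm, ← dotProduct_comm (G *ᵥ Pi.single c 1)]
      rw [dotProduct_comm (G *ᵥ _), dotProduct_mulVec, ← mulVec_transpose, mulVec_mulVec, ← dotProduct_comm,
        single_one_dotProduct, mulVec_single_one, ← mul_assoc]
      rfl
    rw [this, hcol]
    rcases c with i | i <;> rcases d with j | j <;> simp only [Sum.elim_inl, Sum.elim_inr, J, fromBlocks_apply₁₁,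
      fromBlocks_apply₁₂, fromBlocks_apply₂₁, fromBlocks_apply₂₂, Matrix.zero_apply, Matrix.neg_apply, Matrix.one_apply]
    · exact hv1 i j
    · rw [hv2]; split_ifs <;> simp
    · rw [hflip, hv2]
      by_cases h : i = j
      · subst h; simp
      · simp [h, Ne.symm h]
    · rw [hinv]; exact hv1 i j
  refine ⟨⟨G, hGJ⟩, ?_⟩
  rw [mul_assoc, inv_mul_eq_iff_eq_mul]
  apply Subtype.ext
  simp only [Submonoid.coe_mul, ← hX]
  refine ext_of_mulVec_single fun c => ?_
  rw [← mulVec_mulVec, hGe, hcol, ← mulVec_mulVec]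
  rcases c with i | i
  · rw [show omegaMat F m *ᵥ Pi.single (Sum.inl i) 1 = Pi.single (Sum.inr i) 1 by
      funext r; rcases r with r | r <;> simp [omegaMat, mulVec_single_one, Matrix.one_apply, Pi.single_apply]]
    rw [hGe, hcol]; simp
  · rw [show omegaMat F m *ᵥ Pi.single (Sum.inr i) 1 = -Pi.single (Sum.inl i) 1 - Pi.single (Sum.inr i) 1 by
      funext r; rcases r with r | r <;> simp [omegaMat, mulVec_single_one, Matrix.one_apply, Pi.single_apply]]
    rw [mulVec_sub, mulVec_neg, hGe, hGe, hcol]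
    simp [hxx]

theorem card_centralizer_omegaMat (hF : Fintype.card F = q) (hq : q % 3 = 2) (m : ℕ) :
    Nat.card ↥(Subgroup.centralizer ({⟨omegaMat F m, omegaMat_mem m⟩} : Set (symplecticGroup (Fin m) F))) =
      q ^ (m * (m - 1) / 2) * ∏ i ∈ Finset.range m, (if Even i then q ^ (i + 1) + 1 else q ^ (i + 1) - 1) := by
  classical
  haveI : Fact (∀ r : F, r ^ 2 ≠ -1 + -1 * r) := ⟨no_root_of_mod_three hF hq⟩
  letI : Fintype (QuadraticAlgebra F (-1) (-1)) := Fintype.ofEquiv _ (QuadraticAlgebra.equivProd (-1 : F) (-1)).symm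
  have hK : Fintype.card (QuadraticAlgebra F (-1) (-1)) = q ^ 2 := by
    rw [Fintype.card_congr (QuadraticAlgebra.equivProd (-1 : F) (-1)), Fintype.card_prod, hF, sq]
  have hconj : ∀ z : QuadraticAlgebra F (-1) (-1), Cfsg.Agent.Lib.Classical.conjHom hK z = ⟨z.re - z.im, -z.im⟩ := by
    obtain ⟨w, hw⟩ : ∃ w : QuadraticAlgebra F (-1) (-1), w = ⟨0, 1⟩ := ⟨_, rfl⟩
    have hw2 : w ^ 2 = ⟨-1, -1⟩ := by rw [hw, sq]; ext <;> simp
    have hw3 : w ^ 3 = 1 := by rw [pow_succ, hw2, hw]; ext <;> simp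
    intro z
    have e : z = algebraMap F _ z.re + algebraMap F _ z.im * w := by
      rw [hw]; ext <;> simp
    conv_lhs => rw [e]
    rw [map_add, map_mul]
    simp only [Cfsg.Agent.Lib.Classical.conjHom_apply, ← map_pow, ← hF, FiniteField.pow_card]
    rw [hF, ← Nat.div_add_mod q 3, hq, pow_add, pow_mul, hw3, one_pow, one_mul, hw2]
    ext <;> simp [sub_eq_add_neg]
  rw [← Cfsg.Agent.Lib.Classical.card_GU hK m]
  -- both sides are pairs of matrices
  let Cond : Matrix (Fin m) (Fin m) F × Matrix (Fin m) (Fin m) F → Prop := fun p =>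
    p.1ᵀ * p.1 - p.1ᵀ * p.2 + p.2ᵀ * p.2 = 1 ∧ p.2ᵀ * p.1 = p.1ᵀ * p.2
  have hSp : Nat.card ↥(Subgroup.centralizer ({⟨omegaMat F m, omegaMat_mem m⟩} : Set (symplecticGroup (Fin m) F))) =
      Nat.card {p // Cond p} := by
    have hmem : ∀ p : {p // Cond p}, fromBlocks p.1.1 (-p.1.2) p.1.2 (p.1.1 - p.1.2) ∈ symplecticGroup (Fin m) F := by
      rintro ⟨⟨P, R⟩, h1, h2⟩
      rw [SymplecticGroup.fromBlocks_mem_iff]
      refine ⟨h2.symm, ?_, ?_⟩
      · simp only [transpose_neg, transpose_sub, neg_mul, mul_sub, sub_mul, mul_neg]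
        rw [h2]; abel
      · simp only [mul_sub, mul_neg, sub_neg_eq_add]
        exact h1
    refine (Nat.card_eq_of_bijective (fun p : {p // Cond p} =>
      (⟨⟨_, hmem p⟩, Subgroup.mem_centralizer_singleton_iff.mpr (Subtype.ext (by
        simp [omegaMat, fromBlocks_multiply, sub_eq_add_neg, add_comm]))⟩ :
        ↥(Subgroup.centralizer ({⟨omegaMat F m, omegaMat_mem m⟩} : Set (symplecticGroup (Fin m) F))))) ⟨?_, ?_⟩).symm
    · rintro ⟨⟨P, R⟩, hp⟩ ⟨⟨P', R'⟩, hp'⟩ h
      have h' : fromBlocks P (-R) R (P - R) = fromBlocks P' (-R') R' (P' - R') := congrArg (fun g => g.1.1) h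
      obtain ⟨e1, -, e3, -⟩ := fromBlocks_inj.mp h'
      exact Subtype.ext (Prod.ext e1 e3)
    · rintro ⟨⟨M, hM⟩, hc⟩
      have hc' := congrArg Subtype.val (Subgroup.mem_centralizer_singleton_iff.mp hc)
      obtain ⟨A, B, C, D, rfl⟩ : ∃ A B C D, M = fromBlocks A B C D := ⟨_, _, _, _, (fromBlocks_toBlocks M).symm⟩
      simp only [Submonoid.coe_mul, omegaMat, fromBlocks_multiply, fromBlocks_inj] at hc'
      simp at hc'
      obtain ⟨h11, h12, h21, -⟩ := hc'
      subst h11
      have hD : D = A - C := by rw [h21]; abel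
      subst hD
      rw [SymplecticGroup.fromBlocks_mem_iff] at hM
      obtain ⟨g1, g2, g3⟩ := hM
      refine ⟨⟨(A, C), ?_, g1.symm⟩, rfl⟩
      simp only [mul_sub, mul_neg, sub_neg_eq_add] at g3
      exact g3
  have hGU : Nat.card ↥(Cfsg.GU m (QuadraticAlgebra F (-1) (-1)) q) = Nat.card {p // Cond p} := by
    let reH : QuadraticAlgebra F (-1) (-1) →+ F :=
      { toFun := QuadraticAlgebra.re, map_zero' := rfl, map_add' := fun _ _ => rfl }
    let imH : QuadraticAlgebra F (-1) (-1) →+ F :=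
      { toFun := QuadraticAlgebra.im, map_zero' := rfl, map_add' := fun _ _ => rfl }
    have key : ∀ M : Matrix (Fin m) (Fin m) (QuadraticAlgebra F (-1) (-1)),
        Mᵀ * M.map (Cfsg.Agent.Lib.Classical.conjHom hK) = 1 ↔ Cond (M.map QuadraticAlgebra.re, M.map QuadraticAlgebra.im) := by
      intro M
      obtain ⟨P, hP⟩ : ∃ P, P = M.map QuadraticAlgebra.re := ⟨_, rfl⟩
      obtain ⟨R, hR⟩ : ∃ R, R = M.map QuadraticAlgebra.im := ⟨_, rfl⟩
      have hre : ∀ i j, reH ((Mᵀ * M.map (Cfsg.Agent.Lib.Classical.conjHom hK)) i j) = (Pᵀ * P - Pᵀ * R + Rᵀ * R) i j := by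
        intro i j
        simp only [hP, hR, Matrix.mul_apply, Matrix.add_apply, Matrix.sub_apply, Matrix.transpose_apply, Matrix.map_apply, hconj,
          map_sum, ← Finset.sum_sub_distrib, ← Finset.sum_add_distrib]
        refine Finset.sum_congr rfl fun k _ => ?_
        show (M k i * ⟨(M k j).re - (M k j).im, -(M k j).im⟩ : QuadraticAlgebra F (-1) (-1)).re = _
        rw [QuadraticAlgebra.re_mul]; ring
      have him : ∀ i j, imH ((Mᵀ * M.map (Cfsg.Agent.Lib.Classical.conjHom hK)) i j) = (Rᵀ * P - Pᵀ * R) i j := by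
        intro i j
        simp only [hP, hR, Matrix.mul_apply, Matrix.sub_apply, Matrix.transpose_apply, Matrix.map_apply, hconj,
          map_sum, ← Finset.sum_sub_distrib]
        refine Finset.sum_congr rfl fun k _ => ?_
        show (M k i * ⟨(M k j).re - (M k j).im, -(M k j).im⟩ : QuadraticAlgebra F (-1) (-1)).im = _
        rw [QuadraticAlgebra.im_mul]; ring
      rw [← hP, ← hR]
      constructor
      · intro h
        refine ⟨Matrix.ext fun i j => ?_, sub_eq_zero.mp (Matrix.ext fun i j => ?_)⟩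
        · show (Pᵀ * P - Pᵀ * R + Rᵀ * R) i j = _
          rw [← hre, h, Matrix.one_apply, Matrix.one_apply, apply_ite reH]; rfl
        · show (Rᵀ * P - Pᵀ * R) i j = _
          rw [← him, h, Matrix.one_apply, apply_ite imH]
          simp [imH]
      · rintro ⟨h1, h2⟩
        refine Matrix.ext fun i j => QuadraticAlgebra.ext ?_ ?_
        · show reH _ = reH _
          rw [hre, h1, Matrix.one_apply, Matrix.one_apply, apply_ite reH]; rfl
        · show imH _ = imH _
          rw [him]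
          simp [h2, Matrix.one_apply, apply_ite imH, imH]
    refine Nat.card_eq_of_bijective (fun g => (⟨((g.1 : GL (Fin m) (QuadraticAlgebra F (-1) (-1))).val.map QuadraticAlgebra.re,
      (g.1 : GL (Fin m) (QuadraticAlgebra F (-1) (-1))).val.map QuadraticAlgebra.im),
      (key _).mp ((Cfsg.Agent.Lib.Classical.mem_GU_iff hK g.1).mp g.2)⟩ : {p // Cond p})) ⟨?_, ?_⟩
    · intro g g' h
      have h' := congrArg Subtype.val h
      refine Subtype.ext (Units.ext (Matrix.ext fun i j => QuadraticAlgebra.ext ?_ ?_))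
      · exact congrFun (congrFun (congrArg Prod.fst h') i) j
      · exact congrFun (congrFun (congrArg Prod.snd h') i) j
    · rintro ⟨⟨P, R⟩, hp⟩
      obtain ⟨M, hM⟩ : ∃ M : Matrix (Fin m) (Fin m) (QuadraticAlgebra F (-1) (-1)), M = Matrix.of fun i j => ⟨P i j, R i j⟩ := ⟨_, rfl⟩
      have hMc : Mᵀ * M.map (Cfsg.Agent.Lib.Classical.conjHom hK) = 1 := (key M).mpr (by rw [hM]; exact hp)
      obtain ⟨u, hu⟩ : IsUnit M := by
        rw [Matrix.isUnit_iff_isUnit_det, ← Matrix.det_transpose]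
        exact Matrix.isUnit_det_of_right_inverse hMc
      refine ⟨⟨u, (Cfsg.Agent.Lib.Classical.mem_GU_iff hK u).mpr (by rw [hu]; exact hMc)⟩, Subtype.ext ?_⟩
      show (u.val.map QuadraticAlgebra.re, u.val.map QuadraticAlgebra.im) = (P, R)
      rw [hu, hM]; rfl
  rw [hSp, hGU]

end Cfsg.Agent.Lib.QuadFin
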